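/-
Extraspecial subgroup of index `p` (statement S5177): the two presentations of groups of order `p ^ 6`.
-/
import Mathlib

set_option autoImplicit false
set_option linter.unusedSimpArgs false

namespace CL.XI

open scoped commutatorElement

variable {G M : Type*} [Group G] [Group M] {p : ℕ} {k : ℤ}

/-- Relations of a Sylow `p`-subgroup of `SL₄(p)` (`-k` a nonzero square) or `SU₄(p)` (`-k` a nonsquare). -/
structure RelB (p : ℕ) (k : ℤ) (b x0 x1 x2 x3 z : G) : Prop where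
  pb : b ^ p = 1
  p0 : x0 ^ p = 1
  p1 : x1 ^ p = 1
  p2 : x2 ^ p = 1
  p3 : x3 ^ p = 1
  pz : z ^ p = 1
  b0 : b * x0 * b⁻¹ = x0 * x2
  b1 : b * x1 * b⁻¹ = x1 * x3
  b2 : b * x2 * b⁻¹ = x2
  b3 : b * x3 * b⁻¹ = x3
  c01 : ⁅x0, x1⁆ = 1
  c02 : ⁅x0, x2⁆ = z
  c03 : ⁅x0, x3⁆ = 1
  c12 : ⁅x1, x2⁆ = 1
  c13 : ⁅x1, x3⁆ = z ^ k
  c23 : ⁅x2, x3⁆ = 1
  zb : Commute z b
  z0 : Commute z x0
  z1 : Commute z x1
  z2 : Commute z x2
  z3 : Commute z x3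

/-- Relations of a Sylow `p`-subgroup of `G₂(p)`, `p ≥ 5`. -/
structure RelG (p : ℕ) (b x0 x1 x2 x3 z : G) : Prop where
  pb : b ^ p = 1
  p0 : x0 ^ p = 1
  p1 : x1 ^ p = 1
  p2 : x2 ^ p = 1
  p3 : x3 ^ p = 1
  pz : z ^ p = 1
  b0 : b * x0 * b⁻¹ = x0 * x1
  b1 : b * x1 * b⁻¹ = x1 * x2
  b2 : b * x2 * b⁻¹ = x2 * x3
  b3 : b * x3 * b⁻¹ = x3
  c01 : ⁅x0, x1⁆ = z
  c02 : ⁅x0, x2⁆ = z ^ 6
  c03 : ⁅x0, x3⁆ = z ^ 6
  c12 : ⁅x1, x2⁆ = (z ^ 6)⁻¹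
  c13 : ⁅x1, x3⁆ = 1
  c23 : ⁅x2, x3⁆ = 1
  zb : Commute z b
  z0 : Commute z x0
  z1 : Commute z x1
  z2 : Commute z x2
  z3 : Commute z x3

variable {b x0 x1 x2 x3 z : G}

theorem RelB.map (h : RelB p k b x0 x1 x2 x3 z) (f : G →* M) :
    RelB p k (f b) (f x0) (f x1) (f x2) (f x3) (f z) := by
  obtain ⟨_, _, _, _, _, _, _, _, _, _, _, _, _, _, _, _, a1, a2, a3, a4, a5⟩ := h
  refine ⟨?_, ?_, ?_, ?_, ?_, ?_, ?_, ?_, ?_, ?_, ?_, ?_, ?_, ?_, ?_, ?_, a1.map f, a2.map f, a3.map f, a4.map f,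
    a5.map f⟩ <;> simp only [← map_pow, ← map_zpow, ← map_mul, ← map_inv, ← map_commutatorElement, *, map_one]

theorem RelB.of_map {f : G →* M} (hf : Function.Injective f)
    (h : RelB p k (f b) (f x0) (f x1) (f x2) (f x3) (f z)) : RelB p k b x0 x1 x2 x3 z := by
  obtain ⟨_, _, _, _, _, _, _, _, _, _, _, _, _, _, _, _, a1, a2, a3, a4, a5⟩ := h
  refine ⟨hf ?_, hf ?_, hf ?_, hf ?_, hf ?_, hf ?_, hf ?_, hf ?_, hf ?_, hf ?_, hf ?_, hf ?_, hf ?_, hf ?_, hf ?_,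
    hf ?_, a1.of_map hf, a2.of_map hf, a3.of_map hf, a4.of_map hf, a5.of_map hf⟩ <;>
    simp only [map_pow, map_zpow, map_mul, map_inv, map_commutatorElement, *, map_one]

theorem RelG.map (h : RelG p b x0 x1 x2 x3 z) (f : G →* M) :
    RelG p (f b) (f x0) (f x1) (f x2) (f x3) (f z) := by
  obtain ⟨_, _, _, _, _, _, _, _, _, _, _, _, _, _, _, _, a1, a2, a3, a4, a5⟩ := h
  refine ⟨?_, ?_, ?_, ?_, ?_, ?_, ?_, ?_, ?_, ?_, ?_, ?_, ?_, ?_, ?_, ?_, a1.map f, a2.map f, a3.map f, a4.map f,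
    a5.map f⟩ <;> simp only [← map_pow, ← map_zpow, ← map_mul, ← map_inv, ← map_commutatorElement, *, map_one]

theorem RelG.of_map {f : G →* M} (hf : Function.Injective f)
    (h : RelG p (f b) (f x0) (f x1) (f x2) (f x3) (f z)) : RelG p b x0 x1 x2 x3 z := by
  obtain ⟨_, _, _, _, _, _, _, _, _, _, _, _, _, _, _, _, a1, a2, a3, a4, a5⟩ := h
  refine ⟨hf ?_, hf ?_, hf ?_, hf ?_, hf ?_, hf ?_, hf ?_, hf ?_, hf ?_, hf ?_, hf ?_, hf ?_, hf ?_, hf ?_, hf ?_,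
    hf ?_, a1.of_map hf, a2.of_map hf, a3.of_map hf, a4.of_map hf, a5.of_map hf⟩ <;>
    simp only [map_pow, map_zpow, map_mul, map_inv, map_commutatorElement, *, map_one]

end CL.XI
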