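/-
S5177: a `p`-group `G` with an extraspecial subgroup `Q` of index `p` and `Z(G) = Z(Q) = ⟨z⟩`; the symplectic space `V = Q / ⟨z⟩`.
-/
import Cfsg.Agent.PLOC.ESClass
import Cfsg.Agent.FUS.SR3Basic

set_option autoImplicit false
set_option linter.unusedSectionVars false

namespace CL.XI

open Subgroup CL.ES Module
open scoped commutatorElement

variable {G : Type*} [Group G] {p : ℕ} {Q : Subgroup G} {z : G}

/-- The standing hypothesis on the `p`-group. -/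
structure Hyp (p : ℕ) (Q : Subgroup G) (z : G) : Prop where
  odd : Odd p
  pg : IsPGroup p G
  idx : Q.index = p
  ord : orderOf z = p
  mem : z ∈ Q
  cen : center G = zpowers z
  comm : ∀ x ∈ Q, ∀ y ∈ Q, ⁅x, y⁆ ∈ zpowers z
  pow : ∀ x ∈ Q, x ^ p ∈ zpowers z
  cenQ : ∀ x ∈ Q, (∀ y ∈ Q, Commute x y) → x ∈ zpowers z
  card : p ^ 6 ≤ Nat.card G

namespace Hyp

variable (h : Hyp p Q z) {x y g : G}
include h

theorem Z_le : zpowers z ≤ Q := zpowers_le.2 h.mem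

theorem commute_Z {w : G} (hw : w ∈ zpowers z) (g : G) : Commute w g := (mem_center_iff.1 (h.cen.ge hw) g).symm

theorem conj_Z {w : G} (hw : w ∈ zpowers z) (g : G) : g * w * g⁻¹ = w := by
  rw [← (h.commute_Z hw g).eq, mul_inv_cancel_right]

theorem card_Z : Nat.card (zpowers z) = p := by rw [Nat.card_zpowers, h.ord]

theorem z_pow : z ^ p = 1 := h.ord ▸ pow_orderOf_eq_one z

theorem pow_Z {w : G} (hw : w ∈ zpowers z) : w ^ p = 1 := CL.SR3.pow_mem_zpowers (N := ⊥) h.z_pow w hw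

theorem normal_Z : (zpowers z).Normal := h.cen ▸ inferInstance

theorem map_Z (τ : MulAut G) {w : G} (hw : w ∈ zpowers z) : τ w ∈ zpowers z := by
  rw [← h.cen] at hw ⊢
  exact mem_center_iff.2 fun g => by rw [← τ.apply_symm_apply g, ← map_mul, ← map_mul, mem_center_iff.1 hw]

theorem mem_Z_iff (x : Q) : x ∈ zpowers (⟨z, h.mem⟩ : Q) ↔ x.1 ∈ zpowers z :=
  ⟨fun ⟨n, e⟩ => ⟨n, congrArg Subtype.val e⟩, fun ⟨n, e⟩ => ⟨n, Subtype.ext e⟩⟩

theorem zd : ZData p Q ⟨z, h.mem⟩ :=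
  ⟨(orderOf_coe _).symm.trans h.ord, mem_center_iff.2 fun y => Subtype.ext (h.commute_Z (mem_zpowers z) y).eq.symm,
    fun x y => (h.mem_Z_iff _).2 (h.comm _ x.2 _ y.2), fun x => (h.mem_Z_iff _).2 (h.pow _ x.2)⟩

theorem center_zd : center Q = zpowers (⟨z, h.mem⟩ : Q) :=
  le_antisymm (fun x hx => (h.mem_Z_iff x).2 (h.cenQ _ x.2 fun y hy =>
    show x.1 * y = y * x.1 from (congrArg Subtype.val (mem_center_iff.1 hx ⟨y, hy⟩)).symm)) h.zd.le_center

/-- the space `Q / ⟨z⟩` -/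
abbrev V : Type _ := h.zd.V

open Classical in
/-- the projection, zero outside `Q` -/
noncomputable def π (x : G) : h.V := if hx : x ∈ Q then h.zd.pr ⟨x, hx⟩ else 0

theorem π_of_mem (hx : x ∈ Q) : h.π x = h.zd.pr ⟨x, hx⟩ := dif_pos hx

theorem π_mul (hx : x ∈ Q) (hy : y ∈ Q) : h.π (x * y) = h.π x + h.π y := by
  rw [π_of_mem _ hx, π_of_mem _ hy, π_of_mem _ (mul_mem hx hy), ← h.zd.pr_mul]; rfl

theorem π_inv (hx : x ∈ Q) : h.π x⁻¹ = - h.π x := by
  rw [π_of_mem _ hx, π_of_mem _ (inv_mem hx), ← h.zd.pr_inv]; rfl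

theorem π_pow (hx : x ∈ Q) (n : ℕ) : h.π (x ^ n) = n • h.π x := by
  rw [π_of_mem _ hx, π_of_mem _ (pow_mem hx n), ← h.zd.pr_pow]; rfl

theorem π_eq_zero_iff (hx : x ∈ Q) : h.π x = 0 ↔ x ∈ zpowers z := by
  rw [π_of_mem _ hx, h.zd.pr_eq_zero_iff, h.mem_Z_iff]

theorem π_Z {w : G} (hw : w ∈ zpowers z) : h.π w = 0 := (h.π_eq_zero_iff (h.Z_le hw)).2 hw

theorem π_one : h.π 1 = 0 := h.π_Z (one_mem _)

theorem π_zpow (hx : x ∈ Q) (n : ℤ) : h.π (x ^ n) = n • h.π x := by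
  cases n with
  | ofNat n => simp [h.π_pow hx]
  | negSucc n => rw [zpow_negSucc, h.π_inv (pow_mem hx _), h.π_pow hx, negSucc_zsmul]

theorem π_eq_iff (hx : x ∈ Q) (hy : y ∈ Q) : h.π x = h.π y ↔ x⁻¹ * y ∈ zpowers z := by
  rw [π_of_mem _ hx, π_of_mem _ hy, h.zd.pr_eq_iff, h.mem_Z_iff]; rfl

theorem π_surj (v : h.V) : ∃ x ∈ Q, h.π x = v :=
  have ⟨x, e⟩ := h.zd.pr_surjective v
  ⟨x, x.2, (h.π_of_mem x.2).trans e⟩

variable [hp : Fact p.Prime]

theorem ne_two : p ≠ 2 := fun e => absurd (e ▸ h.odd) (by decide)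

theorem two_ne : (2 : ZMod p) ≠ 0 := fun e =>
  h.ne_two ((Nat.prime_dvd_prime_iff_eq hp.out Nat.prime_two).1 ((ZMod.natCast_eq_zero_iff 2 p).1 e))

theorem z_ne_one : z ≠ 1 := fun e => hp.out.one_lt.ne' (by rw [← h.ord, e, orderOf_one])

theorem finite : Finite G := Nat.finite_of_card_ne_zero (by have := h.card; have := pow_pos hp.out.pos 6; omega)

theorem normal : Q.Normal := have := h.finite; PG.normal_of_index_eq h.pg h.idx

theorem conj_mem (hx : x ∈ Q) (g : G) : g * x * g⁻¹ ∈ Q := h.normal.conj_mem x hx g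

theorem pow_mem_Q (g : G) : g ^ p ∈ Q := have := h.normal; h.idx ▸ Q.pow_index_mem g

theorem exists_dec (hg : g ∉ Q) (x : G) : ∃ q ∈ Q, ∃ n : ℕ, x = q * g ^ n := by
  have := h.normal
  have := h.finite
  obtain ⟨q, hq, w, hw, e⟩ := mem_sup_of_normal_left.1 ((CL.SR3.top_eq_sup_zpowers h.idx hg).ge (mem_top x))
  obtain ⟨n, rfl⟩ := mem_powers_iff_mem_zpowers.2 hw
  exact ⟨q, hq, n, e.symm⟩

theorem comm_mem_Q (x y : G) : ⁅x, y⁆ ∈ Q := have := h.finite; CL.SR3.comm_mem_of_index h.pg h.idx x y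

theorem π_val (hx : x ∈ Q) (a : ZMod p) : h.π (x ^ a.val) = a • h.π x := by
  rw [π_of_mem _ hx, π_of_mem _ (pow_mem hx _), ← h.zd.pr_zpw_val]; rfl

theorem π_zpow' (hx : x ∈ Q) (n : ℤ) : h.π (x ^ n) = (n : ZMod p) • h.π x := by
  rw [h.π_zpow hx, Int.cast_smul_eq_zsmul]

/-- the commutator form -/
noncomputable def B : LinearMap.BilinForm (ZMod p) h.V := h.zd.B

theorem comm_eq (hx : x ∈ Q) (hy : y ∈ Q) : ⁅x, y⁆ = zpw z (h.B (h.π x) (h.π y)) := by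
  rw [π_of_mem _ hx, π_of_mem _ hy]
  exact (congrArg Subtype.val (h.zd.zpw_B ⟨x, hx⟩ ⟨y, hy⟩)).symm

theorem B_π (hx : x ∈ Q) (hy : y ∈ Q) : h.B (h.π x) (h.π y) = lg p z ⁅x, y⁆ := by
  rw [h.comm_eq hx hy, lg_zpw h.ord]

theorem B_eq_zero_iff (hx : x ∈ Q) (hy : y ∈ Q) : h.B (h.π x) (h.π y) = 0 ↔ Commute x y := by
  rw [h.B_π hx hy, lg_eq_zero_iff h.ord (h.comm x hx y hy), commutatorElement_eq_one_iff_commute]

theorem B_self (v : h.V) : h.B v v = 0 := h.zd.B_isAlt v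

theorem B_swap (u v : h.V) : h.B u v = - h.B v u := (h.zd.B_isAlt.neg_eq v u).symm

theorem nondeg : h.B.Nondegenerate := h.zd.nondegenerate_iff.2 h.center_zd

theorem eq_zero_of_B {v : h.V} (hv : ∀ w, h.B v w = 0) : v = 0 := h.zd.separatingLeft_iff.2 h.center_zd v hv

instance finite_V : Finite h.V := have := h.finite; h.zd.instFiniteV

theorem exists_rank : ∃ n, 2 ≤ n ∧ finrank (ZMod p) h.V = 2 * n ∧ Nat.card G = p ^ (2 * n + 2) := by
  have := h.finite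
  obtain ⟨n, hn⟩ := h.zd.even_finrank h.center_zd
  have e : Nat.card G = p ^ (2 * n + 2) := by
    rw [← Q.card_mul_index, h.zd.card_eq_pow, h.idx, ← pow_succ, hn, two_mul]
  have := (Nat.pow_le_pow_iff_right hp.out.one_lt).1 (e ▸ h.card)
  exact ⟨n, by omega, by rw [hn, two_mul], e⟩

theorem four_le : 4 ≤ finrank (ZMod p) h.V := by
  obtain ⟨n, h1, h2, -⟩ := h.exists_rank
  omega

theorem card_eq : Nat.card G = p ^ (finrank (ZMod p) h.V + 2) := by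
  obtain ⟨n, -, h2, h3⟩ := h.exists_rank
  rw [h2, h3]

theorem two_mul_finrank_le {W : Submodule (ZMod p) h.V} (hW : ∀ v ∈ W, ∀ w ∈ W, h.B v w = 0) :
    2 * finrank (ZMod p) W ≤ finrank (ZMod p) h.V :=
  have := h.finite; h.zd.two_mul_finrank_le h.center_zd hW

/-- the image of a subgroup in `V` -/
def sub (A : Subgroup G) : Submodule (ZMod p) h.V := h.zd.img (A.subgroupOf Q)

theorem mem_sub {A : Subgroup G} {v : h.V} : v ∈ h.sub A ↔ ∃ a ∈ A, a ∈ Q ∧ h.π a = v :=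
  ⟨fun ⟨a, ha, e⟩ => ⟨a, ha, a.2, (h.π_of_mem a.2).trans e⟩,
    fun ⟨a, ha, hq, e⟩ => ⟨⟨a, hq⟩, ha, (h.π_of_mem hq).symm.trans e⟩⟩

theorem π_mem_sub {A : Subgroup G} (hz : z ∈ A) (hx : x ∈ Q) : h.π x ∈ h.sub A ↔ x ∈ A := by
  refine ⟨fun hm => ?_, fun hm => h.mem_sub.2 ⟨x, hm, hx, rfl⟩⟩
  obtain ⟨a, ha, hq, e⟩ := h.mem_sub.1 hm
  simpa using mul_mem ha (zpowers_le.2 hz ((h.π_eq_iff hq hx).1 e))

theorem card_sub {A : Subgroup G} (hz : z ∈ A) (hA : A ≤ Q) :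
    Nat.card A = p ^ (finrank (ZMod p) (h.sub A) + 1) := by
  have := h.finite
  rw [sub, ← h.zd.card_preim, h.zd.preim_img (show (⟨z, h.mem⟩ : Q) ∈ A.subgroupOf Q from hz),
    Nat.card_congr (subgroupOfEquivOfLe hA).toEquiv]

theorem mul_pow (hx : x ∈ Q) (hy : y ∈ Q) : (x * y) ^ p = x ^ p * y ^ p := by
  have e := h.zd.P_add (h.zd.pr ⟨x, hx⟩) (h.zd.pr ⟨y, hy⟩)
  rw [(ZMod.natCast_eq_zero_iff _ _).2 (PG.prime_dvd_choose_two hp.out h.ne_two), zero_mul, add_zero, ← h.zd.pr_mul,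
    h.zd.P_pr, h.zd.P_pr, h.zd.P_pr, ← lg_mul h.zd.order (h.zd.pow_mem _) (h.zd.pow_mem _)] at e
  exact congrArg Subtype.val (lg_inj h.zd.order (h.zd.pow_mem _) (mul_mem (h.zd.pow_mem _) (h.zd.pow_mem _)) e)

theorem π_map (τ : MulAut G) (hτ : ∀ x ∈ Q, τ x ∈ Q) (hx : x ∈ Q) (hy : y ∈ Q) (e : h.π x = h.π y) :
    h.π (τ x) = h.π (τ y) := by
  rw [h.π_eq_iff (hτ x hx) (hτ y hy), ← map_inv, ← map_mul]
  exact h.map_Z τ ((h.π_eq_iff hx hy).1 e)

/-- the action on `V` of an automorphism preserving `Q` -/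
noncomputable def act (τ : MulAut G) (hτ : ∀ x ∈ Q, τ x ∈ Q) : Module.End (ZMod p) h.V :=
  AddMonoidHom.toZModLinearMap p (AddMonoidHom.mk' (fun v => h.π (τ (h.π_surj v).choose)) fun v w => by
    have a := (h.π_surj v).choose_spec
    have b := (h.π_surj w).choose_spec
    have c := (h.π_surj (v + w)).choose_spec
    rw [← h.π_mul (hτ _ a.1) (hτ _ b.1), ← map_mul]
    exact h.π_map τ hτ c.1 (mul_mem a.1 b.1) (by rw [c.2, h.π_mul a.1 b.1, a.2, b.2]))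

theorem act_π (τ : MulAut G) (hτ : ∀ x ∈ Q, τ x ∈ Q) (hx : x ∈ Q) : h.act τ hτ (h.π x) = h.π (τ x) :=
  have a := (h.π_surj (h.π x)).choose_spec
  h.π_map τ hτ a.1 hx a.2

theorem B_act (τ : MulAut G) (hτ : ∀ x ∈ Q, τ x ∈ Q) {a : ℤ} (ha : τ z = z ^ a) (u v : h.V) :
    h.B (h.act τ hτ u) (h.act τ hτ v) = a * h.B u v := by
  obtain ⟨x, hx, rfl⟩ := h.π_surj u
  obtain ⟨y, hy, rfl⟩ := h.π_surj v
  rw [h.act_π τ hτ hx, h.act_π τ hτ hy, h.B_π (hτ x hx) (hτ y hy), ← map_commutatorElement, h.comm_eq hx hy, zpw,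
    map_pow, ha, lg_pow h.ord (zpow_mem (mem_zpowers z) a), ZMod.natCast_zmod_val, mul_comm]
  congr 1
  rw [← lg_zpw h.ord (a : ZMod p), zpw, ← zpow_natCast]
  congr 1
  exact zpow_eq_zpow_iff_modEq.2 (by rw [h.ord, ← ZMod.intCast_eq_intCast_iff]; simp)

/-- the action on `V` of an element of `G` -/
noncomputable def σ (g : G) : Module.End (ZMod p) h.V := h.act (MulAut.conj g) fun _ hx => h.conj_mem hx g

theorem σ_π (g : G) (hx : x ∈ Q) : h.σ g (h.π x) = h.π (g * x * g⁻¹) := h.act_π _ _ hx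

theorem end_ext {f f' : Module.End (ZMod p) h.V} (e : ∀ x ∈ Q, f (h.π x) = f' (h.π x)) : f = f' :=
  LinearMap.ext fun v => by obtain ⟨x, hx, rfl⟩ := h.π_surj v; exact e x hx

theorem σ_mul (a b : G) : h.σ (a * b) = h.σ a * h.σ b := h.end_ext fun x hx => by
  rw [Module.End.mul_apply, h.σ_π b hx, h.σ_π a (h.conj_mem hx b), h.σ_π _ hx]; congr 1; group

theorem σ_of_mem (hg : g ∈ Q) : h.σ g = 1 := h.end_ext fun x hx => by
  rw [h.σ_π g hx, h.π_mul (mul_mem hg hx) (inv_mem hg), h.π_mul hg hx, h.π_inv hg]; simp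

theorem σ_pow (g : G) (n : ℕ) : h.σ (g ^ n) = h.σ g ^ n := by
  induction n with
  | zero => rw [pow_zero, pow_zero, h.σ_of_mem (one_mem _)]
  | succ n ih => rw [pow_succ, h.σ_mul, ih, pow_succ]

theorem B_σ (g : G) (u v : h.V) : h.B (h.σ g u) (h.σ g v) = h.B u v := by
  refine (h.B_act (MulAut.conj g) (fun _ hx => h.conj_mem hx g) (a := 1)
    (by rw [zpow_one]; exact h.conj_Z (mem_zpowers z) g) u v).trans (by rw [Int.cast_one, one_mul])

theorem act_σ (τ : MulAut G) (hτ : ∀ x ∈ Q, τ x ∈ Q) (g : G) : h.act τ hτ * h.σ g = h.σ (τ g) * h.act τ hτ :=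
  h.end_ext fun x hx => by
    rw [Module.End.mul_apply, Module.End.mul_apply, h.σ_π g hx, h.act_π τ hτ hx, h.act_π τ hτ (h.conj_mem hx g),
      h.σ_π _ (hτ x hx), map_mul, map_mul, map_inv]

/-- `σ g - 1` -/
noncomputable def N (g : G) : Module.End (ZMod p) h.V := h.σ g - 1

theorem σ_apply (g : G) (v : h.V) : h.σ g v = v + h.N g v := by simp [N]

theorem N_π (g : G) (hx : x ∈ Q) : h.N g (h.π x) = h.π (x⁻¹ * (g * x * g⁻¹)) := by
  rw [h.π_mul (inv_mem hx) (h.conj_mem hx g), h.π_inv hx, ← h.σ_π g hx, h.σ_apply]; simp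

theorem N_π' (g : G) (hx : x ∈ Q) : h.N g (h.π x) = h.π ⁅g, x⁆ := by
  rw [commutatorElement_def, h.π_mul (h.conj_mem hx g) (inv_mem hx), h.π_inv hx, ← h.σ_π g hx, h.σ_apply]; simp

theorem N_π_eq_zero_iff (g : G) (hx : x ∈ Q) : h.N g (h.π x) = 0 ↔ ⁅x, g⁆ ∈ zpowers z := by
  rw [h.N_π' g hx, h.π_eq_zero_iff (h.comm_mem_Q g x), ← commutatorElement_inv, inv_mem_iff]

theorem B_N (g : G) (u v : h.V) : h.B (h.N g u) v + h.B u (h.N g v) + h.B (h.N g u) (h.N g v) = 0 := by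
  have e := h.B_σ g u v
  simp only [h.σ_apply, map_add, LinearMap.add_apply] at e
  linear_combination e

theorem B_N_ker {c : h.V} (hc : h.N g c = 0) (v : h.V) : h.B (h.N g v) c = 0 := by
  simpa [hc] using h.B_N g v c

theorem range_N (g : G) : LinearMap.range (h.N g) = h.B.orthogonal (LinearMap.ker (h.N g)) := by
  refine Submodule.eq_of_le_of_finrank_le ?_ ?_
  · rintro _ ⟨v, rfl⟩ c hc
    exact (h.B_swap _ _).trans (by rw [h.B_N_ker hc v, neg_zero])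
  · have := LinearMap.BilinForm.finrank_orthogonal h.nondeg (LinearMap.ker (h.N g))
    have := (h.N g).finrank_range_add_finrank_ker
    omega

theorem exists_N_eq {w : h.V} (hw : ∀ c, h.N g c = 0 → h.B w c = 0) : ∃ v, h.N g v = w :=
  (h.range_N g).ge fun c hc => (h.B_swap c w).trans (by rw [hw c hc, neg_zero])

theorem N_pow (g : G) : h.N g ^ p = 0 := by
  have : Nontrivial h.V := finrank_pos_iff.1 (by have := h.four_le; omega : 0 < finrank (ZMod p) h.V)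
  have : CharP (Module.End (ZMod p) h.V) p := charP_of_injective_algebraMap (algebraMap (ZMod p) _).injective p
  rw [N, sub_pow_char_of_commute p (Commute.one_right _), ← h.σ_pow, h.σ_of_mem (h.pow_mem_Q g), one_pow, sub_self]

theorem N_mul_left {q : G} (hq : q ∈ Q) (g : G) : h.N (q * g) = h.N g := by rw [N, h.σ_mul, h.σ_of_mem hq, one_mul, N]

theorem N_mul_right {q : G} (hq : q ∈ Q) (g : G) : h.N (g * q) = h.N g := by rw [N, h.σ_mul, h.σ_of_mem hq, mul_one, N]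

theorem N_eq_zero (hg : g ∉ Q) {v : h.V} (hv : h.N g v = 0) (x : G) : h.N x v = 0 := by
  obtain ⟨q, hq, n, rfl⟩ := h.exists_dec hg x
  have e : h.σ g v = v := by rw [h.σ_apply, hv, add_zero]
  rw [h.N_mul_left hq, N, h.σ_pow, LinearMap.sub_apply, Module.End.pow_apply, Function.iterate_fixed e]; simp

theorem comm_mem_Z (hg : g ∉ Q) (hx : x ∈ Q) (e : ⁅x, g⁆ ∈ zpowers z) (y : G) : ⁅x, y⁆ ∈ zpowers z :=
  (h.N_π_eq_zero_iff y hx).1 (h.N_eq_zero hg ((h.N_π_eq_zero_iff g hx).2 e) y)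

theorem card_Q : Nat.card Q = p ^ (finrank (ZMod p) h.V + 1) := have := h.finite; h.zd.card_eq_pow

theorem lg_zpow {w : G} (hw : w ∈ zpowers z) (n : ℤ) : lg p z (w ^ n) = n * lg p z w := by
  cases n with
  | ofNat n => simp [lg_pow h.ord hw]
  | negSucc n => rw [zpow_negSucc, lg_inv h.ord (pow_mem hw _), lg_pow h.ord hw]; push_cast; ring

theorem exists_zpow (τ : MulAut G) : ∃ a : ℤ, (a : ZMod p) ≠ 0 ∧ τ z = z ^ a := by
  obtain ⟨a, ha⟩ := h.map_Z τ (mem_zpowers z)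
  refine ⟨a, fun e => h.z_ne_one (τ.injective ?_), ha.symm⟩
  rw [map_one, ← ha]
  exact orderOf_dvd_iff_zpow_eq_one.1 (h.ord ▸ (ZMod.intCast_zmod_eq_zero_iff_dvd a p).1 e)

/-- `Q` is characteristic when the fixed space of some element is isotropic -/
theorem map_Q (hab : ∀ u v, h.N g u = 0 → h.N g v = 0 → h.B u v = 0) (τ : MulAut G) :
    ∀ x ∈ Q, τ x ∈ Q := fun x hx => by_contra fun hy => by
  have := h.finite
  let R : Subgroup G := Q.comap (τ⁻¹ : MulAut G).toMonoidHom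
  have hR : R.index = p := (index_comap_of_surjective _ (τ⁻¹ : MulAut G).surjective).trans h.idx
  have h1 : R.relIndex Q = p := CL.SR3.relIndex_of_not_le h.pg hR fun e =>
    hy ((CL.SR3.eq_of_le_of_relIndex (A := ⊤) (by rw [relIndex_top_right, h.idx]) (by rw [relIndex_top_right, hR]) e
      le_top).le (show τ⁻¹ (τ x) ∈ Q by simpa using hx))
  have h2 : ∀ v ∈ h.sub (R ⊓ Q), h.N g v = 0 := fun v hv => by
    obtain ⟨a, ha, hq, rfl⟩ := h.mem_sub.1 hv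
    refine h.N_eq_zero hy ((h.N_π_eq_zero_iff _ hq).2 ?_) g
    simpa using h.map_Z τ (h.comm _ ha.1 x hx)
  have h3 := h.two_mul_finrank_le fun v hv w hw => hab v w (h2 v hv) (h2 w hw)
  have h4 := h.card_sub (A := R ⊓ Q) ⟨h.Z_le (h.map_Z _ (mem_zpowers z)), h.mem⟩ inf_le_right
  have h5 := (R.subgroupOf Q).card_mul_index
  rw [← inf_subgroupOf_right, Nat.card_congr (subgroupOfEquivOfLe inf_le_right).toEquiv, h4, inf_subgroupOf_right,
    show (R.subgroupOf Q).index = p from h1, h.card_Q, ← pow_succ] at h5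
  have := Nat.pow_right_injective hp.out.two_le h5
  have := h.four_le
  omega

theorem pow_conj (hx : x ∈ Q) (g : G) : (x⁻¹ * (g * x * g⁻¹)) ^ p = 1 := by
  rw [h.mul_pow (inv_mem hx) (h.conj_mem hx g), conj_pow, h.conj_Z (h.pow x hx), inv_pow, inv_mul_cancel]

theorem pow_eq_one_of_π (hx : x ∈ Q) (hy : y ∈ Q) (e : h.π x = h.π y) (h1 : x ^ p = 1) : y ^ p = 1 := by
  have h2 := (h.π_eq_iff hx hy).1 e
  rw [← mul_inv_cancel_left x y, h.mul_pow hx (h.Z_le h2), h1, h.pow_Z h2, one_mul]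

theorem pow_eq_one_of_N (hx : x ∈ Q) {v : h.V} (e : h.N g v = h.π x) : x ^ p = 1 := by
  obtain ⟨y, hy, rfl⟩ := h.π_surj v
  exact h.pow_eq_one_of_π (mul_mem (inv_mem hy) (h.conj_mem hy g)) hx ((h.N_π g hy).symm.trans e) (h.pow_conj hy g)

/-- an automorphism forcing exponent `p` -/
theorem exp_of_aut (τ : MulAut G) (hτ : ∀ x ∈ Q, τ x ∈ Q) {U : Set h.V} {κ : ZMod p} (hκ : κ ≠ 1)
    (hU : ∀ u ∈ U, h.act τ hτ u = κ • u) (h1 : ∀ x ∈ Q, (∀ u ∈ U, h.B (h.π x) u = 0) → x ^ p = 1) :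
    ∀ x ∈ Q, x ^ p = 1 := fun x hx => by
  obtain ⟨a, ha, e⟩ := h.exists_zpow τ
  have hc := h.pow x hx
  have h2 := h1 _ (mul_mem (pow_mem (hτ x hx) κ.val) (zpow_mem hx (-a))) fun u hu => by
    have := h.B_act τ hτ e (h.π x) u
    rw [hU u hu, h.act_π τ hτ hx, map_smul] at this
    rw [h.π_mul (pow_mem (hτ x hx) _) (zpow_mem hx _), h.π_val (hτ x hx), h.π_zpow' hx]
    simp only [map_add, map_smul, LinearMap.add_apply, LinearMap.smul_apply, smul_eq_mul] at this ⊢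
    push_cast
    linear_combination this
  have h3 : τ (x ^ p) = (x ^ p) ^ a := by
    obtain ⟨n, hn⟩ := hc
    rw [← hn, map_zpow, e, ← zpow_mul, ← zpow_mul, mul_comm]
  rw [h.mul_pow (pow_mem (hτ x hx) _) (zpow_mem hx _), ← pow_mul, mul_comm, pow_mul, ← map_pow, h3,
    ← zpow_natCast (x ^ (-a)), ← zpow_mul, mul_comm (-a), zpow_mul, zpow_natCast] at h2
  have h4 := congrArg (lg p z) h2
  rw [lg_mul h.ord (pow_mem (zpow_mem hc _) _) (zpow_mem hc _), lg_pow h.ord (zpow_mem hc _), h.lg_zpow hc,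
    h.lg_zpow hc, lg_one h.ord, ZMod.natCast_zmod_val] at h4
  refine (lg_eq_zero_iff h.ord hc).1 (mul_left_cancel₀ (mul_ne_zero ha (sub_ne_zero.2 hκ)) ?_)
  push_cast at h4
  linear_combination h4

end Hyp

end CL.XI
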