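/-
S5177: an essential subgroup `E` of maximal order whose automizer moves `Z(G)`.
-/
import Cfsg.Agent.FUS.XI.Lin
import Cfsg.Agent.FUS.P5Fus
import Cfsg.Agent.FUS.CenterFus
import Cfsg.Agent.S5179

set_option autoImplicit false
set_option linter.unusedSectionVars false

namespace CL.XI

open Subgroup Cfsg Cfsg.FusionSystem CL.Fus CL.ES CL.EssSm
open scoped commutatorElement

variable {G : Type*} [Group G] {p : ℕ} {F : FusionSystem (⊤ : Subgroup G)} {Q E : Subgroup G} {z : G}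

/-- The local datum. -/
structure Dat (p : ℕ) (F : FusionSystem (⊤ : Subgroup G)) (Q : Subgroup G) (z : G) (E : Subgroup G) : Prop
    extends Hyp p Q z where
  sat : F.IsSaturated p
  ess : F.IsEssential p E
  mov : ∃ α ∈ F.autGroup E, autFun α z ∉ zpowers z
  max : ∀ P f, Mor F P f → z ∈ P → Nat.card E < Nat.card P → f z ∈ zpowers z
  notle : ¬ E ≤ Q

variable [hp : Fact p.Prime] [Finite G]

theorem Hyp.mem_Z_of (h : Hyp p Q z) {x : G} (hx : x ∈ zpowers z) (h1 : x ≠ 1) : z ∈ zpowers x :=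
  TV.mem_zpowers_of_card_prime h.card_Z hx h1 (mem_zpowers z)

theorem Hyp.na (h : Hyp p Q z) : ¬ IsMulCommutative Q := fun hc => by
  have := h.two_mul_finrank_le (W := ⊤) fun v _ w _ => by
    obtain ⟨x, hx, rfl⟩ := h.π_surj v
    obtain ⟨y, hy, rfl⟩ := h.π_surj w
    exact (h.B_eq_zero_iff hx hy).2 (congrArg Subtype.val (hc.is_comm.comm ⟨x, hx⟩ ⟨y, hy⟩))
  have := h.four_le
  rw [finrank_top] at *
  omega

theorem Hyp.z_mem (h : Hyp p Q z) {R : Subgroup G} (hR : F.IsCentric R) : z ∈ R :=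
  centralizer_le_of_centric hR fun y _ => (h.commute_Z (mem_zpowers z) y).eq.symm

theorem Hyp.mor_Z {P : Subgroup G} {f : G → G} (hf : Mor F P f) (hz : z ∈ P) (h1 : f z ∈ zpowers z) {w : G}
    (hw : w ∈ zpowers z) : f w ∈ zpowers z := by
  obtain ⟨n, rfl⟩ := hw
  exact hf.map_zpow hz n ▸ zpow_mem h1 n

theorem Hyp.exists_dat (h : Hyp p Q z) (hF : F.IsSaturated p) (hO : F.core = ⊥) : ∃ E, Dat p F Q z E := by
  have hT := h.pg.to_subgroup ⊤
  have htop : ∀ g, Mor F ⊤ g → g z ∈ zpowers z := fun g hg => by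
    obtain ⟨σ, -, e⟩ := exists_topAut hg
    exact e z ▸ h.map_Z σ (mem_zpowers z)
  have hex : ∃ R, F.IsEssential p R ∧ ∃ α ∈ F.autGroup R, autFun α z ∉ zpowers z := by
    by_contra! hn
    refine h.z_ne_one (mem_bot.1 ((hO ▸ le_core (normal_of_autInv hT hF fun R hR => ?_)) (mem_zpowers z)))
    have hz := h.z_mem (frc_of_top_or_essential hT hF hR).2.1
    refine ⟨zpowers_le.2 hz, fun α hα y _ hy => Hyp.mor_Z (mor_autFun le_top hα) hz ?_ hy⟩
    rcases hR with rfl | hR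
    exacts [htop _ (mor_autFun le_top hα), hn R hR α hα]
  obtain ⟨E, ⟨hE, hm⟩, hmax⟩ := Set.exists_max_image _ (fun R : Subgroup G => Nat.card R) (Set.toFinite _) hex
  refine ⟨E, h, hF, hE, hm, fun P f hf hz hc => ?_, fun hle => ?_⟩
  · refine alperin_ind hT hF (motive := fun f => f z ∈ zpowers z) (mem_zpowers z) (fun f g h1 e => e hz ▸ h1)
      (fun f R g hf h1 hR hg e hm => ?_) hf
    have hzR := h.z_mem (frc_of_top_or_essential hT hF hR).2.1
    refine Hyp.mor_Z hg hzR ?_ h1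
    rcases hR with rfl | hR
    · exact htop g hg
    · obtain ⟨α, hα, e'⟩ := hg.exists_aut e
      by_contra hn
      have := hmax R ⟨hR, α, hα, by rwa [e' hzR]⟩
      have := card_le_of_le (S := ⊤) (img_le_iff.2 hm) le_top
      rw [hf.card_img] at this
      omega
  · obtain rfl := Cfsg.Agent.S5179.result p h.odd hT Q le_top (h.zd.isExtraspecial h.center_zd h.na)
      ((relIndex_top_right Q).trans h.idx) (card_top (G := G) ▸ h.card) F hF hO E hle hE
    obtain ⟨α, -, hα⟩ := hm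
    refine hα (h.cenQ _ (autFun_mem α h.mem) fun y hy => ?_)
    have e := (isHomOn_autFun α).map_mul h.mem (autFun_mem α⁻¹ hy)
    rw [(h.commute_Z (mem_zpowers z) _).eq, (isHomOn_autFun α).map_mul (autFun_mem α⁻¹ hy) h.mem,
      autFun_autFun_inv α hy] at e
    exact e.symm

namespace Dat

variable (h : Dat p F Q z E) {x y : G} {α w : MulAut E}
include h

theorem pgT : IsPGroup p (⊤ : Subgroup G) := h.pg.to_subgroup ⊤

theorem cent : centralizer (E : Set G) ≤ E := centralizer_le_of_centric h.ess.1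

theorem zE : z ∈ E := h.z_mem h.ess.1

theorem ZE : zpowers z ≤ E := zpowers_le.2 h.zE

theorem ne_top : E ≠ ⊤ := (lt_of_essential h.pgT h.sat h.ess).ne

theorem syl : SylIn p (autInducedBy ⊤ E) (F.autGroup E) := sylIn_of_fullyNormalized h.pgT h.sat h.ess.2.1

theorem orderOf_aut (α : MulAut E) : orderOf (autFun α z) = p := by
  rw [autFun_of_mem α h.zE, orderOf_coe, α.orderOf_eq, ← orderOf_coe, h.ord]

theorem aut_pow (α : MulAut E) : autFun α z ^ p = 1 := h.orderOf_aut α ▸ pow_orderOf_eq_one _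

theorem aut_ne_one (α : MulAut E) : autFun α z ≠ 1 := fun e =>
  hp.out.one_lt.ne' (by rw [← h.orderOf_aut α, e, orderOf_one])

theorem commute_aut (α : MulAut E) (hy : y ∈ E) : Commute y (autFun α z) := by
  have e := (isHomOn_autFun α).map_mul h.zE (autFun_mem α⁻¹ hy)
  rw [(h.commute_Z (mem_zpowers z) _).eq, (isHomOn_autFun α).map_mul (autFun_mem α⁻¹ hy) h.zE,
    autFun_autFun_inv α hy] at e
  exact e

theorem aut_mem_zpowers (α : MulAut E) (hy : y ∈ zpowers z) : autFun α y ∈ zpowers (autFun α z) := by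
  obtain ⟨n, rfl⟩ := hy
  exact ⟨n, ((isHomOn_autFun α).map_zpow h.zE n).symm⟩

theorem inv_mov (hα : autFun α z ∉ zpowers z) : autFun α⁻¹ z ∉ zpowers z := fun e => by
  obtain ⟨n, hn⟩ := h.mem_Z_of e (h.aut_ne_one _)
  have := (isHomOn_autFun α).map_zpow (autFun_mem α⁻¹ h.zE) n
  rw [autFun_autFun_inv α h.zE, show autFun α⁻¹ z ^ n = z from hn] at this
  exact hα ⟨n, this.symm⟩

/-- an `F`-conjugate of `z` outside `⟨z⟩` has a centralizer of order at most `|E|` -/
theorem card_le {P : Subgroup G} {f : G → G} (hf : Mor F P f) (hy : y ∈ P) (h1 : f y ∈ zpowers z) (h2 : y ∉ zpowers z) :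
    Nat.card (centralizer ({y} : Set G)) ≤ Nat.card E := by
  by_contra! hc
  have y1 : f y ≠ 1 := fun e => h2 ((hf.eq_one_iff hy).1 e ▸ one_mem _)
  have hf' := hf.mono (zpowers_le.2 hy)
  have e : img f (zpowers y) = zpowers z := by
    rw [hf'.isHomOn.img_zpowers]
    exact le_antisymm (zpowers_le.2 h1) (zpowers_le.2 (h.mem_Z_of h1 y1))
  obtain ⟨g, hg, e'⟩ := exists_extend_centralizer_of_receptive (receptive_of_fullyCentralized h.pgT h.sat
    (fullyCentralized_of_central F le_top fun g _ y hy => (h.commute_Z hy g).eq)) hf' e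
  have hle : centralizer ({y} : Set G) ≤ zpowers y ⊔ centralizerIn ⊤ (zpowers y) := fun c hc =>
    mem_sup_right ⟨trivial, fun _ ⟨n, hn⟩ => hn ▸ (Commute.zpow_left (hc y rfl) n).eq⟩
  have hz : z ∈ centralizer ({y} : Set G) := mem_centralizer_singleton_iff.2 (h.commute_Z (mem_zpowers z) y).eq
  have hy' : y ∈ zpowers y ⊔ centralizerIn ⊤ (zpowers y) := mem_sup_left (mem_zpowers y)
  have h3 := h.max _ g (hg.mono hle) hz hc
  obtain ⟨n, hn⟩ := TV.mem_zpowers_of_card_prime h.card_Z h3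
    (fun e => h.z_ne_one ((hg.eq_one_iff (hle hz)).1 e)) (e' (mem_zpowers y) ▸ h1 : g y ∈ zpowers z)
  exact h2 ⟨n, hg.injOn (zpow_mem (hle hz) n) hy' ((hg.map_zpow (hle hz) n).trans hn)⟩

theorem mem_of_commute (hα : α ∈ F.autGroup E) (hm : autFun α z ∉ zpowers z) (hx : Commute x (autFun α z)) : x ∈ E :=
  (Subgroup.eq_of_le_of_card_ge (fun y hy => mem_centralizer_singleton_iff.2 (h.commute_aut α hy).eq)
    (h.card_le (mor_autFun le_top (inv_mem hα)) (autFun_mem α h.zE)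
      (by rw [autFun_inv_autFun α h.zE]; exact mem_zpowers z) hm)).ge (mem_centralizer_singleton_iff.2 hx.eq)

theorem lt_normalizer : E < normalizer (E : Set G) := normalizerIn_top E ▸ lt_normalizerIn h.pgT h.ne_top.lt_top

theorem fix_of_norm (hw : w ∈ F.autGroup E) (hn : ∀ t ∈ autInducedBy ⊤ E, w * t * w⁻¹ ∈ autInducedBy ⊤ E) :
    autFun w z ∈ zpowers z := by
  obtain ⟨f, hf, e⟩ := exists_extend_of_isCentric h.pgT h.sat (mor_autFun le_top hw) h.ess.1
  exact e h.zE ▸ h.max _ f (hf.mono (Q := normalizer (E : Set G)) fun x hx => (mem_Nphi_autFun_iff le_top hw).2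
    ⟨trivial, hx, hn _ (cjAut_mem_autInducedBy (mem_top x) hx)⟩) (le_normalizer h.zE)
      (Fus.card_lt_of_lt h.lt_normalizer le_top)

theorem ext (hR : ∀ R, F.IsEssential p R → ¬ normalizer (E : Set G) ≤ R) (hw : w ∈ F.autGroup E)
    (hn : ∀ t ∈ autInducedBy ⊤ E, w * t * w⁻¹ ∈ autInducedBy ⊤ E) : ∃ τ : MulAut G, ∀ y ∈ E, τ y = autFun w y := by
  obtain ⟨g, hg, e⟩ := exists_top_of_normalizes h.pgT h.sat h.ess.1 (normalizerIn_top E ▸ hR) hw hn
  obtain ⟨σ, -, e'⟩ := exists_topAut hg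
  exact ⟨σ, fun y hy => (e' y).trans (e hy)⟩

theorem ext_of_normal [E.Normal] (hw : w ∈ F.autGroup E)
    (hn : ∀ t ∈ autInducedBy ⊤ E, w * t * w⁻¹ ∈ autInducedBy ⊤ E) : ∃ τ : MulAut G, ∀ y ∈ E, τ y = autFun w y :=
  h.ext (fun _ hR hle => (lt_of_essential h.pgT h.sat hR).not_ge (normalizer_eq_top E ▸ hle)) hw hn

theorem relIndex_Q : Q.relIndex E = p := CL.SR3.relIndex_of_not_le h.pg h.idx h.notle

end Dat

end CL.XI
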