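/-
S5177: small tools for the case analysis.
-/
import Cfsg.Agent.FUS.XI.Setup
import Cfsg.Agent.FUS.SR3Lem
import Cfsg.Agent.FUS.Frattini

set_option autoImplicit false
set_option linter.unusedSectionVars false

namespace CL.XI

open Subgroup Cfsg Cfsg.FusionSystem CL.Fus CL.ES CL.EssSm Module
open scoped commutatorElement

theorem span_pair_of_finrank {K M : Type*} [Field K] [AddCommGroup M] [Module K M] [FiniteDimensional K M]
    {W : Submodule K M} (hW : finrank K W ≤ 2) {y v : M} (hy : y ∈ W) (hy0 : y ≠ 0) (hv : v ∈ W) (hvy : v ∉ K ∙ y) :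
    Submodule.span K {y, v} = W := by
  refine Submodule.eq_of_le_of_finrank_le (Submodule.span_le.2 (Set.pair_subset hy hv)) (hW.trans ?_)
  have := Submodule.finrank_lt_finrank_of_lt (show (K ∙ y) < Submodule.span K {y, v} from
    lt_of_le_of_ne (Submodule.span_mono (by simp)) fun e => hvy (e.ge (Submodule.subset_span (by simp))))
  rwa [finrank_span_singleton hy0] at this

variable {G : Type*} [Group G] {p : ℕ} {F : FusionSystem (⊤ : Subgroup G)} {Q E : Subgroup G} {z : G}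

/-- The hypotheses of `Hyp.final`. -/
def Good (p : ℕ) (Q : Subgroup G) (z : G) : Prop :=
  Nat.card G = p ^ 6 ∧ (∀ x ∈ Q, x ^ p = 1) ∧ ∃ b, b ∉ Q ∧ b ^ p = 1 ∧ (∀ x ∈ Q, ⁅x, b⁆ ∈ zpowers z → Commute x b) ∧
    ∀ x ∈ Q, ∀ y ∈ Q, Commute x b → Commute y b → Commute x y

variable [hp : Fact p.Prime] [Finite G]

namespace Hyp

variable (h : Hyp p Q z) {x y g : G}
include h

/-- the elements of order dividing `p` of `Q` -/
def om : Subgroup G where
  carrier := {x | x ∈ Q ∧ x ^ p = 1}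
  one_mem' := ⟨one_mem _, one_pow p⟩
  mul_mem' := fun ha hb => ⟨mul_mem ha.1 hb.1, by rw [h.mul_pow ha.1 hb.1, ha.2, hb.2, one_mul]⟩
  inv_mem' := fun ha => ⟨inv_mem ha.1, by rw [inv_pow, ha.2, inv_one]⟩

theorem eq_one_of_mem (hy : orderOf y = p) (hyZ : y ∉ zpowers z) (h1 : x ∈ zpowers z) (h2 : x ∈ zpowers y) : x = 1 :=
  by_contra fun e => hyZ (zpowers_le.2 h1
    (TV.mem_zpowers_of_card_prime (by rw [Nat.card_zpowers, hy]) h2 e (mem_zpowers y)))

theorem mem_of_span {A : Subgroup G} (hz : z ∈ A) (hx : x ∈ Q) {s : Set G} (hs : ∀ a ∈ s, a ∈ A ∧ a ∈ Q)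
    (e : h.π x ∈ Submodule.span (ZMod p) (h.π '' s)) : x ∈ A :=
  (h.π_mem_sub hz hx).1 (Submodule.span_le.2 (by
    rintro _ ⟨a, ha, rfl⟩
    exact h.mem_sub.2 ⟨a, (hs a ha).1, (hs a ha).2, rfl⟩) e)

theorem sub_isotropic {A : Subgroup G} (hA : ∀ a ∈ A, ∀ b ∈ A, Commute a b) :
    ∀ v ∈ h.sub A, ∀ w ∈ h.sub A, h.B v w = 0 := fun v hv w hw => by
  obtain ⟨a, ha, ha', rfl⟩ := h.mem_sub.1 hv
  obtain ⟨b, hb, hb', rfl⟩ := h.mem_sub.1 hw
  exact (h.B_eq_zero_iff ha' hb').2 (hA a ha b hb)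

theorem mem_of_lagr {W : Submodule (ZMod p) h.V} (hW : ∀ v ∈ W, ∀ w ∈ W, h.B v w = 0)
    (hd : finrank (ZMod p) h.V ≤ 2 * finrank (ZMod p) W) {u : h.V} (hu : ∀ w ∈ W, h.B u w = 0) : u ∈ W := by
  have h1 := LinearMap.BilinForm.finrank_orthogonal h.nondeg W
  refine (Submodule.eq_of_le_of_finrank_le (S₂ := h.B.orthogonal W) (fun v hv w hw => hW w hw v hv) (by omega)).ge
    fun w hw => (h.B_swap w u).trans (by rw [hu w hw, neg_zero])

theorem mem_span_of_perp {y u : h.V} (hu : ∀ w, h.B w y = 0 → h.B u w = 0) : u ∈ (ZMod p) ∙ y := by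
  rw [← LinearMap.BilinForm.orthogonal_orthogonal h.nondeg h.zd.B_isAlt.isRefl ((ZMod p) ∙ y)]
  exact fun w hw => (h.B_swap w u).trans (by
    rw [hu w ((h.B_swap w y).trans (by rw [hw y (Submodule.mem_span_singleton_self y), neg_zero])), neg_zero])

theorem finrank_perp {y : h.V} (hy : y ≠ 0) :
    finrank (ZMod p) (h.B.orthogonal ((ZMod p) ∙ y)) + 1 = finrank (ZMod p) h.V := by
  have := LinearMap.BilinForm.finrank_orthogonal h.nondeg ((ZMod p) ∙ y)
  have := h.four_le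
  rw [finrank_span_singleton hy] at *
  omega

theorem mem_perp {y u : h.V} : u ∈ h.B.orthogonal ((ZMod p) ∙ y) ↔ h.B u y = 0 :=
  ⟨fun e => (h.B_swap u y).trans (by rw [e y (Submodule.mem_span_singleton_self y), neg_zero]), fun e w hw => by
    obtain ⟨c, rfl⟩ := Submodule.mem_span_singleton.1 hw
    change h.B (c • y) u = 0
    rw [map_smul, LinearMap.smul_apply, h.B_swap, e, neg_zero, smul_zero]⟩

/-- multiply `b` by a power of `c` to centralize `a` -/
theorem exists_adjust {a b c : G} (ha : a ∈ Q) (hc : c ∈ Q) (h1 : ⁅a, b⁆ ∈ zpowers z) (h2 : h.B (h.π a) (h.π c) ≠ 0) :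
    ∃ n : ℕ, Commute a (b * c ^ n) := by
  obtain ⟨s, hs⟩ := exists_zpw_eq h.ord h1
  refine ⟨(-s / h.B (h.π a) (h.π c)).val, commutatorElement_eq_one_iff_commute.1 ?_⟩
  rw [PG.commutator_mul_right_of_commute (h.commute_Z (h.comm a ha _ (pow_mem hc _)) b).symm, ← hs,
    h.comm_eq ha (pow_mem hc _), h.π_val hc, map_smul, smul_eq_mul, div_mul_cancel₀ _ h2, ← zpw_add h.ord,
    add_neg_cancel, zpw_zero]

theorem neg_one_ne : (-1 : ZMod p) ≠ 1 := fun e => h.two_ne (by linear_combination -e)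

theorem conj_eq (hx : x ∈ Q) (hy : y ∈ Q) : x * y * x⁻¹ = z ^ ((h.B (h.π x) (h.π y)).val : ℤ) * y := by
  rw [zpow_natCast, ← zpw, ← h.comm_eq hx hy, commutatorElement_def, inv_mul_cancel_right]

end Hyp

theorem mem_img_autFun {A : Subgroup G} (α : MulAut E) {y : G} :
    y ∈ img (autFun α) (E ⊓ A) ↔ y ∈ E ∧ autFun α⁻¹ y ∈ A := by
  rw [((isHomOn_autFun α).mono inf_le_left).mem_img]
  refine ⟨?_, fun ⟨h1, h2⟩ => ⟨_, ⟨autFun_mem _ h1, h2⟩, autFun_autFun_inv α h1⟩⟩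
  rintro ⟨x, hx, rfl⟩
  exact ⟨autFun_mem α hx.1, (autFun_inv_autFun α hx.1).symm ▸ hx.2⟩

theorem card_eq_mul_relIndex {A B : Subgroup G} : Nat.card B = Nat.card (A ⊓ B : Subgroup G) * A.relIndex B := by
  rw [← (A.subgroupOf B).card_mul_index, ← inf_subgroupOf_right,
    Nat.card_congr (subgroupOfEquivOfLe inf_le_right).toEquiv, inf_subgroupOf_right, relIndex]

/-- Frattini argument: adjust `w` modulo automorphisms trivial on `Y / X`. -/
theorem Dat.exists_norm (h : Dat p F Q z E) {H : Subgroup (MulAut E)} (hH : H ≤ F.autGroup E) {X Y : Subgroup G}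
    (hX : AutInv H X) (hY : AutInv H Y) (hT : autInducedBy ⊤ E ≤ stabPair H X Y hY) {w : MulAut E} (hw : w ∈ H) :
    ∃ c ∈ stabPair H X Y hY, ∀ t ∈ autInducedBy ⊤ E, c * w * t * (c * w)⁻¹ ∈ autInducedBy ⊤ E := by
  obtain ⟨c, hc, hn⟩ := (h.syl.of_le hT fun a ha => hH ha.1).frattini
    (le_normalizer_of_conj_mem (fun a ha g hg => conj_mem_stabPair hX hY ha hg) hw)
  exact ⟨c, hc, fun t ht => (mem_normalizer_iff.1 hn t).1 ht⟩

end CL.XI
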