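/-
S5177, case I: all conjugates of `z` under the automizer of `E` lie in `Q`.
-/
import Cfsg.Agent.FUS.XI.Tl

set_option autoImplicit false
set_option linter.unusedSectionVars false

namespace CL.XI

open Subgroup Cfsg Cfsg.FusionSystem CL.Fus CL.ES CL.EssSm Module
open scoped commutatorElement

variable {G : Type*} [Group G] {p : ℕ} {F : FusionSystem (⊤ : Subgroup G)} {Q E : Subgroup G} {z : G}
variable [hp : Fact p.Prime] [Finite G]

namespace Dat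

variable (h : Dat p F Q z E) {α : MulAut E} (hα : α ∈ F.autGroup E) (hm : autFun α z ∉ zpowers z)
  (hQ : ∀ β ∈ F.autGroup E, autFun β z ∈ Q) {x y : G}
include h hα hm hQ

theorem y_ne : h.π (autFun α z) ≠ 0 := fun e => hm ((h.π_eq_zero_iff (hQ α hα)).1 e)

theorem mem_iff_B (hx : x ∈ Q) : x ∈ E ↔ h.B (h.π x) (h.π (autFun α z)) = 0 := by
  rw [h.B_eq_zero_iff hx (hQ α hα)]
  exact ⟨h.commute_aut α, h.mem_of_commute hα hm⟩

theorem N_y (g : G) : h.N g (h.π (autFun α z)) = 0 := by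
  obtain ⟨e, he, heQ⟩ := SetLike.not_le_iff_exists.1 h.notle
  refine h.N_eq_zero heQ ((h.N_π_eq_zero_iff e (hQ α hα)).2 ?_) g
  rw [commutatorElement_eq_one_iff_commute.2 (h.commute_aut α he).symm]
  exact one_mem _

theorem normal1 : E.Normal := ⟨fun e he g => h.mem_of_commute hα hm (by
  have h1 := h.commute_Z ((h.N_π_eq_zero_iff g⁻¹ (hQ α hα)).1 (h.N_y hα hm hQ _)) e
  have h2 : Commute e (g⁻¹ * autFun α z * g) := by
    rw [show g⁻¹ * autFun α z * g = ⁅autFun α z, g⁻¹⁆⁻¹ * autFun α z by simp [commutatorElement_def, mul_assoc]]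
    exact h1.symm.inv_right.mul_right (h.commute_aut α he)
  simpa [mul_assoc] using h2.map (MulAut.conj g))⟩

theorem sub_E : h.sub (E ⊓ Q) = h.B.orthogonal ((ZMod p) ∙ h.π (autFun α z)) := Submodule.ext fun v => by
  obtain ⟨x, hx, rfl⟩ := h.π_surj v
  rw [h.π_mem_sub (mem_inf.2 ⟨h.zE, h.mem⟩) hx, h.mem_perp, ← h.mem_iff_B hα hm hQ hx]
  exact ⟨fun e => e.1, fun e => ⟨e, hx⟩⟩

theorem card_E0 : Nat.card (E ⊓ Q : Subgroup G) = p ^ finrank (ZMod p) h.V := by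
  rw [h.card_sub (mem_inf.2 ⟨h.zE, h.mem⟩) inf_le_right, h.sub_E hα hm hQ, h.finrank_perp (h.y_ne hα hm hQ)]

theorem mem_Y_iff (hx : x ∈ Q) :
    x ∈ zpowers z ⊔ zpowers (autFun α z) ↔ h.π x ∈ (ZMod p) ∙ h.π (autFun α z) := by
  refine ⟨fun e => ?_, fun e => h.mem_of_span (mem_sup_left (mem_zpowers z)) hx (s := {autFun α z})
    (by rintro _ rfl; exact ⟨mem_sup_right (mem_zpowers _), hQ α hα⟩) (by rwa [Set.image_singleton])⟩
  have := h.normal_Z
  obtain ⟨a, ha, _, ⟨n, rfl⟩, rfl⟩ := mem_sup_of_normal_left.1 e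
  rw [h.π_mul (h.Z_le ha) (zpow_mem (hQ α hα) n), h.π_Z ha, zero_add, h.π_zpow' (hQ α hα)]
  exact Submodule.smul_mem _ _ (Submodule.mem_span_singleton_self _)

theorem mem_Y (hx : x ∈ Q) (hc : ∀ y ∈ E ⊓ Q, Commute x y) : x ∈ zpowers z ⊔ zpowers (autFun α z) :=
  (h.mem_Y_iff hα hm hQ hx).2 (h.mem_span_of_perp fun w hw => by
    obtain ⟨y, hy, rfl⟩ := h.π_surj w
    exact (h.B_eq_zero_iff hx hy).2 (hc y ⟨(h.mem_iff_B hα hm hQ hy).2 hw, hy⟩))

theorem Y_le : zpowers z ⊔ zpowers (autFun α z) ≤ E ⊓ Q :=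
  sup_le (le_inf h.ZE h.Z_le) (zpowers_le.2 ⟨autFun_mem α h.zE, hQ α hα⟩)

theorem commute_Y (hy : y ∈ zpowers z ⊔ zpowers (autFun α z)) (hx : x ∈ E) : Commute x y :=
  (mem_centralizer_singleton_iff.1 ((sup_le (zpowers_le.2 (mem_centralizer_singleton_iff.2
    (h.commute_Z (mem_zpowers z) x).eq)) (zpowers_le.2 (mem_centralizer_singleton_iff.2
      (h.commute_aut α hx).symm.eq)) : _ ≤ centralizer {x}) hy)).symm

theorem inv_Y : AutInv (F.autGroup E) (zpowers z ⊔ zpowers (autFun α z)) := fun γ hγ y hy hY => by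
  have k : ∀ β ∈ F.autGroup E, autFun β z ∈ zpowers z ⊔ zpowers (autFun α z) := fun β hβ =>
    h.mem_Y hα hm hQ (hQ β hβ) fun y hy => (h.commute_aut β hy.1).symm
  refine ((sup_le (zpowers_le.2 ⟨h.zE, k γ hγ⟩) (zpowers_le.2 ⟨autFun_mem α h.zE, ?_⟩) :
    _ ≤ (isHomOn_autFun γ).preim _) hY).2
  exact autFun_mul γ α h.zE ▸ k _ (mul_mem hγ hα)

/-- an automorphism of `G` inverting `Y / Z` -/
theorem exists_tau : ∃ τ : MulAut G, autFun α z * τ (autFun α z) ∈ zpowers z := by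
  have := h.normal1 hα hm hQ
  have hz' := autFun_mem α h.zE
  obtain ⟨x, hx, hxy⟩ : ∃ x ∈ Q, h.B (h.π x) (h.π (autFun α z)) ≠ 0 := by
    by_contra! hn
    refine h.y_ne hα hm hQ (h.eq_zero_of_B fun w => ?_)
    obtain ⟨x, hx, rfl⟩ := h.π_surj w
    rw [h.B_swap, hn x hx, neg_zero]
  have hn : x ∈ normalizer (E : Set G) := (normalizer_eq_top E).ge trivial
  have hu := cjAut_mem_autGroup F le_top (mem_top x) hn
  have h1 := hQ _ (inv_mem hα)
  obtain ⟨j, hj⟩ := Submodule.mem_span_singleton.1 ((h.mem_Y_iff hα hm hQ h1).1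
    (h.inv_Y hα hm hQ _ (inv_mem hα) z h.zE (mem_sup_left (mem_zpowers z))))
  have hj0 : j ≠ 0 := fun e => h.inv_mov hm ((h.π_eq_zero_iff h1).1 (by rw [← hj, e, zero_smul]))
  obtain ⟨w, hw, w1, w2⟩ := TV.exists_diag (p := p) (z := (⟨z, h.zE⟩ : E)) (z' := ⟨_, hz'⟩)
    (Subtype.ext (h.commute_Z (mem_zpowers z) _).eq) (Subtype.ext h.z_pow) (Subtype.ext (h.aut_pow α))
    (u := cjAut E x hn) (v := α * cjAut E x hn * α⁻¹) (a := (h.B (h.π x) (h.π (autFun α z))).val)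
    (b := (h.B (h.π x) (h.π (autFun α⁻¹ z))).val) (by simpa using hxy)
    (by simpa [← hj, hj0] using hxy)
    ⟨Subtype.ext (by simpa [cjAut_apply, cj] using h.conj_Z (mem_zpowers z) x),
      Subtype.ext (by simpa [cjAut_apply, cj] using h.conj_eq hx (hQ α hα))⟩
    ⟨Subtype.ext (by
      rw [← autFun_of_mem _ h.zE, autFun_mul _ _ h.zE, autFun_mul _ _ (autFun_mem _ h.zE),
        autFun_cjAut hn (autFun_mem _ h.zE), cj, h.conj_eq hx h1,
        (isHomOn_autFun α).map_mul (zpow_mem h.zE _) (autFun_mem _ h.zE), (isHomOn_autFun α).map_zpow h.zE,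
        autFun_autFun_inv α h.zE]
      simpa using ((h.commute_Z (mem_zpowers z) _).zpow_right _).eq.symm),
    Subtype.ext (by
      rw [← autFun_of_mem _ hz', autFun_mul _ _ hz', autFun_inv_autFun α h.zE, autFun_mul _ _ h.zE,
        autFun_cjAut hn h.zE, cj, h.conj_Z (mem_zpowers z)]
      simp)⟩ (t := -1) (s := -1) (by simp)
  have hwA : w ∈ F.autGroup E := closure_pair_le' hu hα hw
  have e1 : autFun w z = z⁻¹ := by simpa [autFun_of_mem w h.zE] using congrArg Subtype.val w1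
  have e2 : autFun w (autFun α z) = (autFun α z)⁻¹ := by simpa [autFun_of_mem w hz'] using congrArg Subtype.val w2
  have hY : AutInv (F.autGroup E ⊓ stabAut E (zpowers z)) (zpowers z ⊔ zpowers (autFun α z)) :=
    fun γ hγ => h.inv_Y hα hm hQ γ hγ.1
  obtain ⟨c, hc, hcn⟩ := h.exists_norm inf_le_left (X := zpowers z) (fun γ hγ y hy => (hγ.2 y hy).2) hY (fun t ht => by
      obtain ⟨g, -, e⟩ := mem_autInducedBy_iff.1 ht
      refine ⟨⟨h.syl.le ht, mem_stabAut_of_finite h.ZE fun y hy => ?_⟩, fun y hy hyY => ?_⟩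
      · rwa [e (h.ZE hy), cj, h.conj_Z hy]
      · have hq := (h.Y_le hα hm hQ hyY).2
        obtain ⟨i, hi⟩ := Submodule.mem_span_singleton.1 ((h.mem_Y_iff hα hm hQ hq).1 hyY)
        rw [e hy, cj, ← h.π_eq_zero_iff (mul_mem (inv_mem hq) (h.conj_mem hq g)), ← h.N_π g hq, ← hi, map_smul,
          h.N_y hα hm hQ, smul_zero])
    (w := w) ⟨hwA, mem_stabAut_of_finite h.ZE fun y hy =>
      zpowers_le.2 (e1 ▸ inv_mem (mem_zpowers z)) (h.aut_mem_zpowers w hy)⟩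
  obtain ⟨τ, hτ⟩ := h.ext_of_normal (mul_mem hc.1.1 hwA) hcn
  refine ⟨τ, ?_⟩
  rw [hτ _ hz', autFun_mul _ _ hz', e2]
  simpa using hc.2 _ (inv_mem hz') (inv_mem (mem_sup_right (mem_zpowers _)))

theorem case1 : Good p Q z := by
  have := h.normal1 hα hm hQ
  have hz' := autFun_mem α h.zE
  have hy0 := h.y_ne hα hm hQ
  have h4 := h.four_le
  obtain ⟨E₁, hE₁⟩ : ∃ E₁, E₁ = img (autFun α) (E ⊓ Q) := ⟨_, rfl⟩
  have m1 : ∀ {y}, y ∈ E₁ ↔ y ∈ E ∧ autFun α⁻¹ y ∈ Q := hE₁ ▸ mem_img_autFun α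
  have le1 : E₁ ≤ E := fun y hy => (m1.1 hy).1
  have c1 : Nat.card E₁ = p ^ finrank (ZMod p) h.V := by
    rw [hE₁, CL.SR3.card_img_autFun α inf_le_left, h.card_E0 hα hm hQ]
  have k1 : ∀ u ∈ E₁, ∀ v ∈ E₁, ⁅u, v⁆ ∈ zpowers (autFun α z) := fun u hu v hv => by
    have := h.aut_mem_zpowers α (h.comm _ (m1.1 hu).2 _ (m1.1 hv).2)
    rwa [(isHomOn_autFun α).map_commutator (autFun_mem _ (le1 hu)) (autFun_mem _ (le1 hv)),
      autFun_autFun_inv α (le1 hu), autFun_autFun_inv α (le1 hv)] at this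
  have k2 : ∀ u ∈ E₁, u ^ p ∈ zpowers (autFun α z) := fun u hu => by
    have := h.aut_mem_zpowers α (h.pow _ (m1.1 hu).2)
    rwa [(isHomOn_autFun α).map_pow (autFun_mem _ (le1 hu)), autFun_autFun_inv α (le1 hu)] at this
  have bc : ∀ u ∈ E₁ ⊓ Q, ∀ v ∈ E₁ ⊓ Q, Commute u v := fun u hu v hv => commutatorElement_eq_one_iff_commute.1
    (h.eq_one_of_mem (h.orderOf_aut α) hm (h.comm u hu.2 v hv.2) (k1 u hu.1 v hv.1))
  have bp : E₁ ⊓ Q ≤ h.om := fun u hu =>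
    ⟨hu.2, h.eq_one_of_mem (h.orderOf_aut α) hm (h.pow u hu.2) (k2 u hu.1)⟩
  have yB : zpowers z ⊔ zpowers (autFun α z) ≤ E₁ ⊓ Q := fun y hy =>
    have := h.Y_le hα hm hQ hy
    ⟨m1.2 ⟨this.1, (h.Y_le hα hm hQ (h.inv_Y hα hm hQ _ (inv_mem hα) y this.1 hy)).2⟩, this.2⟩
  have zB := yB (mem_sup_left (mem_zpowers z))
  have d1 := h.two_mul_finrank_le (h.sub_isotropic bc)
  have d2 := h.card_sub zB inf_le_right
  have n1 : ¬ E₁ ≤ Q := fun e => by
    rw [inf_eq_left.2 e] at d1 d2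
    have := Nat.pow_right_injective hp.out.two_le (c1.symm.trans d2)
    omega
  have r1 : Q.relIndex E₁ = p := CL.SR3.relIndex_of_not_le h.pg h.idx n1
  have d3 := card_eq_mul_relIndex (A := Q) (B := E₁)
  rw [r1, inf_comm, d2, c1, ← pow_succ] at d3
  have d4 := Nat.pow_right_injective hp.out.two_le d3
  have dV : finrank (ZMod p) h.V = 4 := by omega
  have dB : finrank (ZMod p) (h.sub (E₁ ⊓ Q)) = 2 := by omega
  have yB' : h.π (autFun α z) ∈ h.sub (E₁ ⊓ Q) := (h.π_mem_sub zB (hQ α hα)).2 (yB (mem_sup_right (mem_zpowers _)))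
  obtain ⟨b, hb, hbQ⟩ := SetLike.not_le_iff_exists.1 n1
  obtain ⟨c, hc, hcy⟩ : ∃ c ∈ E₁ ⊓ Q, h.π c ∉ (ZMod p) ∙ h.π (autFun α z) := by
    by_contra! hn
    have := Submodule.finrank_mono (show h.sub (E₁ ⊓ Q) ≤ (ZMod p) ∙ h.π (autFun α z) from fun v hv => by
      obtain ⟨a, ha, -, rfl⟩ := h.mem_sub.1 hv
      exact hn a ha)
    rw [finrank_span_singleton hy0] at this
    omega
  obtain ⟨k, hk⟩ := k1 b hb c hc.1
  have Nc : h.N b (h.π c) = (k : ZMod p) • h.π (autFun α z) := by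
    rw [h.N_π' b hc.2, ← hk, h.π_zpow' (hQ α hα)]
  have k0 : (k : ZMod p) ≠ 0 := fun e => by
    have h1 : Commute b c := commutatorElement_eq_one_iff_commute.1 (hk ▸
      orderOf_dvd_iff_zpow_eq_one.1 (h.orderOf_aut α ▸ (ZMod.intCast_zmod_eq_zero_iff_dvd k p).1 e))
    have h2 : E₁ ≤ centralizer {c} := by
      rw [← CL.SR3.eq_sup_zpowers (B := E₁ ⊓ Q) inf_le_left ((inf_relIndex_left _ _).trans r1) hb fun e => hbQ e.2]
      exact sup_le (fun u hu => mem_centralizer_singleton_iff.2 (bc u hu c hc).eq)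
        (zpowers_le.2 (mem_centralizer_singleton_iff.2 h1.eq))
    have h3 := h.mem_Y hα hm hQ (m1.1 hc.1).2 fun y hy => by
      have h4 := mem_centralizer_singleton_iff.1 (h2 (hE₁ ▸ mem_img_of_mem (autFun α) hy))
      have h5 := congrArg (autFun α⁻¹) h4
      rw [(isHomOn_autFun _).map_mul (autFun_mem α hy.1) (le1 hc.1),
        (isHomOn_autFun _).map_mul (le1 hc.1) (autFun_mem α hy.1), autFun_inv_autFun α hy.1] at h5
      exact h5.symm
    have h4 := h.inv_Y hα hm hQ α hα _ (autFun_mem _ (le1 hc.1)) h3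
    rw [autFun_autFun_inv α (le1 hc.1)] at h4
    exact hcy ((h.mem_Y_iff hα hm hQ hc.2).1 h4)
  have Ky : ∀ u, h.N b u = 0 → h.B u (h.π (autFun α z)) = 0 := fun u hu => by
    have := h.B_N_ker hu (h.π c)
    rw [Nc, map_smul, LinearMap.smul_apply, smul_eq_mul, mul_eq_zero, h.B_swap] at this
    exact neg_eq_zero.1 (this.resolve_left k0)
  have dK : finrank (ZMod p) (LinearMap.ker (h.N b)) ≤ 2 := by
    have := h.finrank_perp hy0
    have := Submodule.finrank_lt_finrank_of_lt (show LinearMap.ker (h.N b) < h.B.orthogonal (_ ∙ h.π (autFun α z)) from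
      lt_of_le_of_ne (fun u hu => h.mem_perp.2 (Ky u hu)) fun e => smul_ne_zero k0 hy0 (Nc.symm.trans
        (e.ge (h.mem_perp.2 ((h.mem_iff_B hα hm hQ hc.2).1 (le1 hc.1))))))
    omega
  have sK : ∀ v, h.N b v = 0 → v ∉ (ZMod p) ∙ h.π (autFun α z) →
      Submodule.span (ZMod p) {h.π (autFun α z), v} = LinearMap.ker (h.N b) := fun v hv hv' =>
    span_pair_of_finrank dK (h.N_y hα hm hQ b) hy0 hv hv'
  have hab : ∀ u v, h.N b u = 0 → h.N b v = 0 → h.B u v = 0 := fun u v hu hv => by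
    by_cases hv' : v ∈ (ZMod p) ∙ h.π (autFun α z)
    · obtain ⟨i, rfl⟩ := Submodule.mem_span_singleton.1 hv'
      rw [map_smul, Ky u hu, smul_zero]
    · obtain ⟨i, j, rfl⟩ := Submodule.mem_span_pair.1 ((sK v hv hv').ge hu)
      simp [h.B_self, h.B_swap (h.π (autFun α z)) v, Ky v hv]
  have e0 : E ⊓ Q ≤ h.om := by
    obtain ⟨x, hx, hxy⟩ : ∃ x ∈ Q, h.B (h.π x) (h.π (autFun α z)) ≠ 0 := by
      by_contra! hn
      refine hy0 (h.eq_zero_of_B fun w => ?_)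
      obtain ⟨x, hx, rfl⟩ := h.π_surj w
      rw [h.B_swap, hn x hx, neg_zero]
    have ha : x⁻¹ * (b * x * b⁻¹) ∈ E ⊓ Q := ⟨by
      simpa [mul_assoc] using mul_mem (this.conj_mem b (le1 hb) x⁻¹) (inv_mem (le1 hb)),
      Q.mul_mem (Q.inv_mem hx) (h.conj_mem hx b)⟩
    have haB : x⁻¹ * (b * x * b⁻¹) ∉ E₁ ⊓ Q := fun e => by
      have h1 := h.B_N b (h.π x) (h.π c)
      rw [Nc, h.N_π b hx, (h.B_eq_zero_iff ha.2 hc.2).2 (bc _ e c hc), map_smul, map_smul,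
        (h.mem_iff_B hα hm hQ ha.2).1 ha.1] at h1
      exact mul_ne_zero k0 hxy (by simpa using h1)
    have hle : E₁ ⊓ Q ≤ E ⊓ Q := inf_le_inf_right Q le1
    have r2 : (E₁ ⊓ Q).relIndex (E ⊓ Q) = p := by
      have := card_eq_mul_relIndex (A := E₁ ⊓ Q) (B := E ⊓ Q)
      rw [inf_eq_left.2 hle, d2, h.card_E0 hα hm hQ, dV, dB, pow_succ p 3] at this
      exact (Nat.eq_of_mul_eq_mul_left (pow_pos hp.out.pos _) this).symm
    rw [← CL.SR3.eq_sup_zpowers hle r2 ha haB]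
    exact sup_le bp (zpowers_le.2 ⟨ha.2, h.pow_conj hx b⟩)
  have e1 : ∀ u ∈ E₁, u ^ p = 1 := fun u hu => by
    rw [← autFun_autFun_inv α (le1 hu), ← (isHomOn_autFun α).map_pow (autFun_mem _ (le1 hu)),
      (e0 ⟨autFun_mem _ (le1 hu), (m1.1 hu).2⟩).2, (isHomOn_autFun α).map_one]
  obtain ⟨τ, hτ⟩ := h.exists_tau hα hm hQ
  have hτQ := h.map_Q hab τ
  refine ⟨by rw [h.card_eq, dV], h.exp_of_aut τ hτQ (U := {h.π (autFun α z)}) h.neg_one_ne ?_ fun x hx e =>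
    (e0 ⟨(h.mem_iff_B hα hm hQ hx).2 (e _ rfl), hx⟩).2, ?_⟩
  · rintro _ rfl
    rw [h.act_π τ hτQ (hQ α hα), neg_one_smul, eq_neg_iff_add_eq_zero, add_comm,
      ← h.π_mul (hQ α hα) (hτQ _ (hQ α hα)), h.π_Z hτ]
  suffices ∃ n : ℕ, ∀ x ∈ Q, h.N b (h.π x) = 0 → Commute x (b * c ^ n) by
    obtain ⟨n, hn⟩ := this
    have eN := h.N_mul_right (pow_mem hc.2 n) b
    refine ⟨b * c ^ n, fun e => hbQ (by simpa using mul_mem e (inv_mem (pow_mem hc.2 n))),
      e1 _ (mul_mem hb (pow_mem hc.1 n)), fun x hx e => hn x hx (eN ▸ (h.N_π_eq_zero_iff _ hx).2 e),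
      fun x hx y hy e e' => (h.B_eq_zero_iff hx hy).1 (hab _ _ ?_ ?_)⟩
    · rw [← eN, h.N_π_eq_zero_iff _ hx, commutatorElement_eq_one_iff_commute.2 e]; exact one_mem _
    · rw [← eN, h.N_π_eq_zero_iff _ hy, commutatorElement_eq_one_iff_commute.2 e']; exact one_mem _
  by_cases hK : ∀ x ∈ Q, h.N b (h.π x) = 0 → h.π x ∈ (ZMod p) ∙ h.π (autFun α z)
  · exact ⟨0, fun x hx e => by
      simpa using (h.commute_Y hα hm hQ ((h.mem_Y_iff hα hm hQ hx).2 (hK x hx e)) (le1 hb)).symm⟩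
  push Not at hK
  obtain ⟨a, ha, ha1, ha2⟩ := hK
  have sB := span_pair_of_finrank dB.le yB' hy0 ((h.π_mem_sub zB hc.2).2 hc) hcy
  obtain ⟨n, hn⟩ := h.exists_adjust ha hc.2 ((h.N_π_eq_zero_iff b ha).1 ha1) fun e => by
    have h1 := h.mem_of_lagr (h.sub_isotropic bc) (by omega) (u := h.π a) fun w hw => by
      obtain ⟨i, j, rfl⟩ := Submodule.mem_span_pair.1 (sB.ge hw)
      simp [e, Ky _ ha1]
    obtain ⟨i, j, hij⟩ := Submodule.mem_span_pair.1 (sB.ge h1)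
    rw [← hij, map_add, map_smul, map_smul, h.N_y hα hm hQ, smul_zero, zero_add, Nc, smul_smul, smul_eq_zero,
      mul_eq_zero, or_iff_left hy0, or_iff_left k0] at ha1
    exact ha2 (Submodule.mem_span_singleton.2 ⟨i, by rw [← hij, ha1, zero_smul, add_zero]⟩)
  refine ⟨n, fun x hx e => mem_centralizer_singleton_iff.1 (h.mem_of_span (mem_centralizer_singleton_iff.2
    (h.commute_Z (mem_zpowers z) _).eq) hx (s := {autFun α z, a}) ?_ (by rw [Set.image_pair, sK _ ha1 ha2]; exact e))⟩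
  rintro _ (rfl | rfl)
  · exact ⟨mem_centralizer_singleton_iff.2 (h.commute_aut α (le1 (mul_mem hb (pow_mem hc.1 n)))).symm.eq, hQ α hα⟩
  · exact ⟨mem_centralizer_singleton_iff.2 hn.eq, ha⟩

end Dat

end CL.XI
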