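/-
S5177: a group of automorphisms of an elementary abelian group in which the orbit of a point is an elliptic quadric.
-/
import Cfsg.Agent.CLAS.OrthEich

set_option autoImplicit false

namespace CL.XI

open Subgroup

namespace O4

open Module

variable {p : ℕ} [Fact p.Prime] {M Γ : Type*} [AddCommGroup M] [Module (ZMod p) M] [Finite M] [Group Γ]
  {ρ : Γ →* Module.End (ZMod p) M} {A T : Subgroup Γ} {D E₀ E₁ : Submodule (ZMod p) M} {e z : M}

/-- the Siegel maps of an anisotropic form on `D` -/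
structure Hf (ρ : Γ →* Module.End (ZMod p) M) (A : Subgroup Γ) (D : Submodule (ZMod p) M) (e z : M)
    (B : LinearMap.BilinForm (ZMod p) D) : Prop where
  sy : ∀ u v, B u v = B v u
  an : ∀ w, B w w = 0 → w = 0
  ex : ∀ w : D, ∃ t ∈ A, ρ t e = e + w + (B w w / 2) • z ∧ (∀ d : D, ρ t d = d + B w d • z) ∧ ρ t z = z

omit [Finite M] in
theorem ρ_inv (g : Γ) (x : M) : ρ g⁻¹ (ρ g x) = x := by
  rw [← Module.End.mul_apply, ← map_mul, inv_mul_cancel, map_one, Module.End.one_apply]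

omit [Finite M] in
theorem ρ_inv' (g : Γ) (x : M) : ρ g (ρ g⁻¹ x) = x := by
  rw [← Module.End.mul_apply, ← map_mul, mul_inv_cancel, map_one, Module.End.one_apply]

omit [Finite M] in
theorem ρ_mul (g h : Γ) (x : M) : ρ (g * h) x = ρ g (ρ h x) := by rw [map_mul, Module.End.mul_apply]

theorem half (two : (2 : ZMod p) ≠ 0) (TA : T ≤ A) (DE : D ≤ E₁) (eE : e ∈ E₁) (eD : e ∉ D) (z0 : z ≠ 0)
    (dim : 2 ≤ finrank (ZMod p) D) (Ω : ∀ γ ∈ A, ρ γ e ∈ E₁ → ∃ c : ZMod p, ρ γ e = c • e)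
    (t1 : ∀ t ∈ T, ρ t z = z) (t2 : ∀ t ∈ T, ∀ d ∈ D, ∃ c : ZMod p, ρ t d = d + c • z)
    (t4 : ∀ w ∈ D, ∃ t ∈ T, ∃ c : ZMod p, ρ t e = e + w + c • z)
    (t5 : ∀ t ∈ T, ∀ c : ZMod p, ρ t e = e + c • z → t = 1) : ∃ B, Hf ρ A D e z B := by
  choose t ht f hf using fun w : D => t4 w w.2
  choose b hb using fun w d : D => t2 (t w) (ht w) d d.2
  have zi : ∀ {a c : ZMod p}, a • z = c • z → a = c := fun h => smul_left_injective _ z0 h
  have fa : ∀ w w', f (w + w') = f w + f w' + b w w' := fun w w' => by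
    have e1 : ρ (t w * t w') e = ρ (t (w + w')) (e + (f w + f w' + b w w' - f (w + w')) • z) := by
      rw [ρ_mul, hf w', map_add (ρ (t (w + w'))), hf (w + w')]
      simp only [map_add, map_smul, hf w, hb, t1 _ (ht _), Submodule.coe_add]
      module
    have e2 := t5 ((t (w + w'))⁻¹ * (t w * t w')) (mul_mem (inv_mem (ht _)) (mul_mem (ht _) (ht _))) _
      (by rw [ρ_mul, e1, ρ_inv])
    rw [← inv_mul_eq_one.1 e2, map_add, left_eq_add, map_smul, t1 _ (ht _), smul_eq_zero_iff_left z0] at e1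
    linear_combination -e1
  have sy : ∀ w w', b w w' = b w' w := fun w w' => by
    have := fa w w'
    rw [add_comm w, fa] at this
    linear_combination -this
  have ba : ∀ w d d', b w (d + d') = b w d + b w d' := fun w d d' => zi (by
    have := hb w (d + d')
    rw [Submodule.coe_add, map_add, hb, hb] at this
    linear_combination (norm := module) -this)
  have bs : ∀ w (c : ZMod p) d, b w (c • d) = c * b w d := fun w c d => zi (by
    have := hb w (c • d)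
    rw [Submodule.coe_smul, map_smul, hb] at this
    linear_combination (norm := module) -this)
  let B : LinearMap.BilinForm (ZMod p) D := LinearMap.mk₂ (ZMod p) b
    (fun a a' d => by rw [sy, ba, sy d, sy d]) (fun c a d => by rw [sy, bs, sy d, smul_eq_mul]) ba
    (fun c a d => by rw [bs, smul_eq_mul])
  have eB : ∀ u v, b u v = B u v := fun _ _ => rfl
  clear_value B
  simp only [eB] at fa sy hb
  have f0 : ∀ w, f w = 0 → w = 0 := fun w h => by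
    have e1 := hf w
    rw [h, zero_smul, add_zero] at e1
    obtain ⟨c, hc⟩ := Ω _ (TA (ht w)) (e1 ▸ add_mem eE (DE w.2))
    have e2 : (w : M) = (c - 1) • e := by rw [e1] at hc; linear_combination (norm := module) hc
    by_cases h1 : c - 1 = 0
    · exact Subtype.ext (by rw [e2, h1, zero_smul]; rfl)
    · exact absurd ((D.smul_mem_iff h1).1 (e2 ▸ w.2)) eD
  let l : D →ₗ[ZMod p] ZMod p := (AddMonoidHom.mk' (fun w => f w - B w w / 2) fun w w' => by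
    simp only [fa, map_add, LinearMap.add_apply, sy w' w]; field_simp; ring).toZModLinearMap p
  have el : ∀ w, f w = l w + B w w / 2 := fun w => (sub_add_cancel _ _).symm
  clear_value l
  have l0 : ∀ w, l w = 0 := fun w => by
    by_contra hw
    have k1 : ∀ w, l w ≠ 0 → B w w = 0 := fun w hw => by
      by_contra h
      have := f0 ((-2 * l w / B w w) • w) (by
        simp only [el, map_smul, LinearMap.smul_apply, smul_eq_mul]; field_simp; ring)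
      rcases smul_eq_zero.1 this with h1 | h1
      · exact div_ne_zero (mul_ne_zero (neg_ne_zero.2 two) hw) h h1
      · exact hw (by rw [h1, map_zero])
    obtain ⟨k, hk, k0⟩ := (Submodule.ne_bot_iff _).1 (l.ker_ne_bot_of_finrank_lt (by rw [finrank_self]; omega))
    have hk : l k = 0 := hk
    have a1 := k1 (w + k) (by rwa [map_add, hk, add_zero])
    have a2 := k1 (w - k) (by rwa [map_sub, hk, sub_zero])
    have a3 := k1 w hw
    simp only [map_add, map_sub, LinearMap.add_apply, LinearMap.sub_apply] at a1 a2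
    have : B k k = 0 := mul_left_cancel₀ two (by linear_combination a1 + a2 - 2 * a3)
    exact k0 (f0 k (by rw [el, hk, this]; simp))
  exact ⟨B, sy, fun w h => f0 w (by rw [el, l0, h]; simp), fun w =>
    ⟨t w, TA (ht w), by rw [hf, el, l0, zero_add], hb w, t1 _ (ht w)⟩⟩

variable {B B' : LinearMap.BilinForm (ZMod p) D}

omit [Finite M] in
theorem Hf.dim (h : Hf ρ A D e z B) : finrank (ZMod p) D ≤ 2 := by
  by_contra! l
  obtain ⟨w, -, w0, hw⟩ := CL.OrthE.exists_singular B.toQuadraticMap ⊤ (by rw [finrank_top]; omega)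
  exact w0 (h.an w hw)

theorem Hf.univ (h : Hf ρ A D e z B) (dim : 2 ≤ finrank (ZMod p) D) (a : ZMod p) : ∃ v, B v v = a := by
  obtain ⟨⟨v, s⟩, -, w0, hw⟩ := CL.OrthE.exists_singular
    (B.toQuadraticMap.prod ((-a) • QuadraticMap.sq (R := ZMod p) (A := ZMod p))) ⊤
    (by rw [finrank_top, finrank_prod, finrank_self]; omega)
  have hw : B v v + -a * (s * s) = 0 := by simpa using hw
  have s0 : s ≠ 0 := by
    rintro rfl
    exact w0 (by rw [h.an v (by simpa using hw)]; rfl)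
  exact ⟨s⁻¹ • v, by
    simp only [map_smul, LinearMap.smul_apply, smul_eq_mul]; field_simp; linear_combination hw⟩

theorem Hf.quad (two : (2 : ZMod p) ≠ 0) (h : Hf ρ A D e z B) (h' : Hf ρ A D z e B') (DE : D ≤ E₀) (zE : z ∈ E₀)
    (zD : z ∉ D) (dim : 2 ≤ finrank (ZMod p) D) (Ω : ∀ γ ∈ A, ρ γ z ∈ E₀ → ∃ c : ZMod p, ρ γ z = c • z) {γ : Γ}
    (hγ : γ ∈ A) {c m : ZMod p} (hc : c ≠ 0) {w : D} (hw : c • ρ γ z = e + w + m • z) : m = B w w / 2 := by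
  by_contra hm
  replace hm := sub_ne_zero.2 hm
  obtain ⟨t, ht, a1, -, a3⟩ := h.ex w
  obtain ⟨v, hv⟩ := h'.univ dim (-2 / (m - B w w / 2))
  obtain ⟨s, hs, b1, -, b3⟩ := h'.ex v
  have e1 : c • ρ γ z = ρ t (e + (m - B w w / 2) • z) := by
    rw [hw, map_add, map_smul, a1, a3]; module
  generalize m - B w w / 2 = n at hm hv e1
  have e2 : c • ρ (s * (t⁻¹ * γ)) z = n • (z + v) := by
    rw [ρ_mul, ρ_mul, ← map_smul, ← map_smul, e1, ρ_inv, map_add, map_smul, b1, b3, hv, smul_add n _ (_ • e),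
      smul_smul, show n * (-2 / n / 2) = -1 by field_simp]
    module
  obtain ⟨c', hc'⟩ := Ω _ (mul_mem hs (mul_mem (inv_mem ht) hγ))
    ((E₀.smul_mem_iff hc).1 (e2 ▸ E₀.smul_mem _ (add_mem zE (DE v.2))))
  have e3 : (c * c' - n) • z = n • (v : M) := by rw [hc'] at e2; linear_combination (norm := module) e2
  by_cases h1 : c * c' - n = 0
  · rw [h1, zero_smul, eq_comm, smul_eq_zero_iff_right hm, Submodule.coe_eq_zero] at e3
    rw [e3, map_zero, eq_comm, div_eq_zero_iff, neg_eq_zero] at hv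
    exact hv.elim two hm
  · exact zD ((D.smul_mem_iff h1).1 (e3 ▸ D.smul_mem _ v.2))

omit [Finite M] in
theorem Hf.refl (two : (2 : ZMod p) ≠ 0) (h : Hf ρ A D e z B) (h' : Hf ρ A D z e B) {w : D} (hw : w ≠ 0) :
    ∃ n ∈ A, ρ n e = (B w w / 2) • z ∧ ρ n z = (2 / B w w) • e ∧
      ∀ d : D, ρ n d = d - (2 * B w d / B w w) • (w : M) := by
  have q0 : B w w ≠ 0 := fun e => hw (h.an w e)
  obtain ⟨t, ht, a1, a2, a3⟩ := h.ex w
  obtain ⟨s, hs, b1, b2, b3⟩ := h'.ex ((-2 / B w w) • w)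
  simp only [map_smul, LinearMap.smul_apply, smul_eq_mul, Submodule.coe_smul] at b1 b2
  refine ⟨s * (t * s), mul_mem hs (mul_mem ht hs), ?_, ?_, fun d => ?_⟩ <;>
    simp only [ρ_mul, map_add, map_smul, a1, a2, a3, b1, b2, b3] <;> match_scalars <;> field_simp <;> ring

theorem lin (two : (2 : ZMod p) ≠ 0) (TA : T ≤ A) (cod : ∀ x, x ∉ E₀ → ∀ y, ∃ c : ZMod p, y - c • x ∈ E₀)
    (dim : 3 ≤ finrank (ZMod p) E₀) (zE : z ∈ E₀) (z0 : z ≠ 0) {α : Γ} (hα : α ∈ A) (αz : ρ α z ∉ E₀)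
    (Ω : ∀ γ ∈ A, ρ γ z ∈ E₀ → ∃ c : ZMod p, ρ γ z = c • z) (t1 : ∀ t ∈ T, ρ t z = z)
    (t2 : ∀ t ∈ T, ∀ d ∈ E₀, ∃ c : ZMod p, ρ t d = d + c • z)
    (t4 : ∀ x, x ∉ E₀ → ∀ w ∈ E₀, ∃ t ∈ T, ∃ c : ZMod p, ρ t x = x + w + c • z)
    (t5 : ∀ x, x ∉ E₀ → ∀ t ∈ T, ∀ c : ZMod p, ρ t x = x + c • z → t = 1) :
    finrank (ZMod p) E₀ = 3 ∧ ∃ g ∈ A, (∃ c : ZMod p, ρ g z = c • z) ∧ ∀ d ∈ E₀, ∃ c : ZMod p, d + ρ g d = c • z := by
  let E₁ := E₀.comap (ρ α⁻¹)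
  have m1 : ∀ x, x ∈ E₁ ↔ ρ α⁻¹ x ∈ E₀ := fun _ => Iff.rfl
  have zE₁ : ρ α⁻¹ z ∉ E₀ := fun h => by
    obtain ⟨c, hc⟩ := Ω _ (inv_mem hα) h
    have e1 : z = c • ρ α z := by rw [← map_smul, ← hc, ρ_inv']
    exact αz ((E₀.smul_mem_iff fun c0 => z0 (by rw [e1, c0, zero_smul])).1 (e1 ▸ zE))
  have dec : ∀ d ∈ E₀, ∃ c : ZMod p, d - c • z ∈ E₀ ⊓ E₁ := fun d hd => by
    obtain ⟨c, hc⟩ := cod _ zE₁ (ρ α⁻¹ d)
    exact ⟨c, sub_mem hd (E₀.smul_mem _ zE), (m1 _).2 (by rwa [map_sub, map_smul])⟩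
  have d1 : finrank (ZMod p) E₀ ≤ finrank (ZMod p) ↥(E₀ ⊓ E₁) + 1 := by
    have l : E₀ ≤ E₀ ⊓ E₁ ⊔ (ZMod p) ∙ z := fun d hd => by
      obtain ⟨c, hc⟩ := dec d hd
      exact sub_add_cancel d (c • z) ▸ Submodule.add_mem_sup hc (Submodule.smul_mem _ _
        (Submodule.mem_span_singleton_self z))
    have := (Submodule.finrank_mono l).trans (Submodule.finrank_add_le_finrank_add_finrank _ _)
    rwa [finrank_span_singleton z0] at this
  have d2 : 2 ≤ finrank (ZMod p) ↥(E₀ ⊓ E₁) := by omega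
  have zD : z ∉ E₀ ⊓ E₁ := fun h => zE₁ h.2
  obtain ⟨B, h⟩ := half (ρ := ρ) (D := E₀ ⊓ E₁) (e := ρ α z) two TA inf_le_right ((m1 _).2 (by rwa [ρ_inv]))
    (fun h => αz h.1) z0 d2 (fun γ hγ h => by
      obtain ⟨c, hc⟩ := Ω (α⁻¹ * (γ * α)) (mul_mem (inv_mem hα) (mul_mem hγ hα)) (by rwa [ρ_mul, ρ_mul])
      exact ⟨c, by rw [← map_smul, ← hc, ρ_mul, ρ_mul, ρ_inv']⟩) t1 (fun t ht d hd => t2 t ht d hd.1)
    (fun w hw => t4 _ αz w hw.1) (t5 _ αz)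
  have cj : ∀ t x, ρ (MulAut.conj α t) x = ρ α (ρ t (ρ α⁻¹ x)) := fun t x => by
    rw [MulAut.conj_apply, ρ_mul, ρ_mul]
  obtain ⟨B', h'⟩ := half (ρ := ρ) (D := E₀ ⊓ E₁) (T := T.map (MulAut.conj α).toMonoidHom) (e := z) (z := ρ α z) two
    (by rintro _ ⟨t, ht, rfl⟩; exact mul_mem (mul_mem hα (TA ht)) (inv_mem hα)) inf_le_left zE zD
    (fun h => αz (h ▸ zero_mem _)) d2 Ω (by
      rintro _ ⟨t, ht, rfl⟩
      exact (cj t _).trans (by rw [ρ_inv, t1 t ht])) (by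
      rintro _ ⟨t, ht, rfl⟩ d hd
      obtain ⟨c, hc⟩ := t2 t ht _ ((m1 _).1 hd.2)
      exact ⟨c, (cj t _).trans (by rw [hc, map_add, ρ_inv', map_smul])⟩) (fun w hw => by
      obtain ⟨t, ht, c, hc⟩ := t4 _ zE₁ _ ((m1 _).1 hw.2)
      exact ⟨_, ⟨t, ht, rfl⟩, c, (cj t _).trans (by rw [hc, map_add, map_add, ρ_inv', ρ_inv', map_smul])⟩) (by
      rintro _ ⟨t, ht, rfl⟩ c hc
      replace hc := (cj t _).symm.trans hc
      rw [t5 _ zE₁ t ht c (by rw [← ρ_inv (ρ := ρ) α (ρ t _), hc, map_add, map_smul, ρ_inv]), map_one])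
  generalize ρ α z = e at h h'
  have DE : E₀ ⊓ E₁ ≤ E₀ := inf_le_left
  generalize E₀ ⊓ E₁ = D at *
  refine ⟨by have := h.dim; omega, ?_⟩
  have q1 : ∀ v, B' v v = B v v := fun v => by
    by_cases hv : v = 0
    · simp [hv]
    have q0 : B' v v ≠ 0 := fun e => hv (h'.an v e)
    obtain ⟨s, hs, b1, -⟩ := h'.ex v
    have := h.quad two h' DE zE zD d2 Ω hs (c := 2 / B' v v) (m := 2 / B' v v) (div_ne_zero two q0)
      (w := (2 / B' v v) • v) (by rw [b1, Submodule.coe_smul]; match_scalars <;> field_simp)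
    simp only [map_smul, LinearMap.smul_apply, smul_eq_mul] at this
    field_simp at this
    exact this
  obtain rfl : B' = B := LinearMap.ext₂ fun u v => mul_left_cancel₀ two (by
    have := q1 (u + v)
    simp only [map_add, LinearMap.add_apply, h.sy v u, h'.sy v u] at this
    linear_combination this - q1 u - q1 v)
  have : Nontrivial D := finrank_pos_iff.1 (show 0 < finrank (ZMod p) D by omega)
  obtain ⟨w1, h1⟩ := exists_ne (0 : D)
  obtain ⟨w2, o, h2⟩ := (Submodule.ne_bot_iff _).1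
    ((B' w1).ker_ne_bot_of_finrank_lt (by rw [finrank_self]; omega))
  have o : B' w1 w2 = 0 := o
  have o' : B' w2 w1 = 0 := by rw [h.sy, o]
  have q1 : B' w1 w1 ≠ 0 := fun e => h1 (h.an _ e)
  have q2 : B' w2 w2 ≠ 0 := fun e => h2 (h.an _ e)
  have sp : ∀ d : D, ∃ a b : ZMod p, d = a • w1 + b • w2 := fun d => by
    refine ⟨B' w1 d / B' w1 w1, B' w2 d / B' w2 w2, sub_eq_zero.1 ?_⟩
    have k1 : B' w1 (d - ((B' w1 d / B' w1 w1) • w1 + (B' w2 d / B' w2 w2) • w2)) = 0 := by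
      simp [o, q1]
    have k2 : B' w2 (d - ((B' w1 d / B' w1 w1) • w1 + (B' w2 d / B' w2 w2) • w2)) = 0 := by
      simp [o', q2]
    generalize d - _ = u at k1 k2
    obtain ⟨x, x0, hx⟩ := CL.OrthE.exists_singular_comb B'.toQuadraticMap w1 w2 u
    have e1 := h.an _ hx
    have e2 := congrArg (B' w1) e1
    have e3 := congrArg (B' w2) e1
    simp [o, o', k1, k2, q1, q2] at e2 e3
    rw [e2, e3, zero_smul, zero_smul, zero_add, zero_add] at e1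
    refine (smul_eq_zero.1 e1).resolve_left fun e4 => x0 (funext fun i => ?_)
    fin_cases i <;> assumption
  obtain ⟨n1, m1, a1, -, a3⟩ := h.refl two h' h1
  obtain ⟨n2, m2, -, b2, b3⟩ := h.refl two h' h2
  have gz : ρ (n1 * n2) z = (B' w1 w1 / B' w2 w2) • z := by
    rw [ρ_mul, b2, map_smul, a1, smul_smul]; congr 1; field_simp
  refine ⟨n1 * n2, mul_mem m1 m2, ⟨_, gz⟩, fun d hd => ?_⟩
  obtain ⟨c, hc⟩ := dec d hd
  obtain ⟨a, b, e1⟩ := sp ⟨_, hc⟩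
  have e1 : d = a • (w1 : M) + b • w2 + c • z := sub_eq_iff_eq_add.1 (congrArg Subtype.val e1)
  refine ⟨c + c * (B' w1 w1 / B' w2 w2), ?_⟩
  rw [e1, map_add, map_smul, gz]
  simp only [ρ_mul, map_add, map_smul, map_sub, a3, b3, o, o']
  match_scalars <;> field_simp <;> ring

theorem comm {E : Type*} [CommGroup E] [Finite E] [Module (ZMod p) (Additive E)] (hp : Odd p)
    {A T : Subgroup (MulAut E)} (hTA : T ≤ A) {E₀ : Subgroup E} (hi : E₀.index = p)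
    (h3 : p ^ 3 ≤ Nat.card E₀) {z : E} (hz : z ∈ E₀) (hz1 : z ≠ 1) {α : MulAut E} (hα : α ∈ A) (hαz : α z ∉ E₀)
    (hΩ : ∀ γ ∈ A, γ z ∈ E₀ → γ z ∈ zpowers z) (t1 : ∀ t ∈ T, t z = z)
    (t2 : ∀ t ∈ T, ∀ d ∈ E₀, d⁻¹ * t d ∈ zpowers z)
    (t4 : ∀ x, x ∉ E₀ → ∀ w ∈ E₀, ∃ t ∈ T, w⁻¹ * (x⁻¹ * t x) ∈ zpowers z)
    (t5 : ∀ x, x ∉ E₀ → ∀ t ∈ T, x⁻¹ * t x ∈ zpowers z → t = 1) :
    Nat.card E₀ = p ^ 3 ∧ ∃ g ∈ A, g z ∈ zpowers z ∧ ∀ d ∈ E₀, d * g d ∈ zpowers z := by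
  have hp' : p.Prime := Fact.out
  let ρ₀ : MulAut E → Module.End (ZMod p) (Additive E) := fun γ =>
    (AddMonoidHom.mk' (fun x => .ofMul (γ x.toMul)) fun x y =>
      congrArg Additive.ofMul (map_mul γ x.toMul y.toMul)).toZModLinearMap p
  have eρ : ∀ γ x, ρ₀ γ x = .ofMul (γ x.toMul) := fun _ _ => rfl
  let ρ : MulAut E →* Module.End (ZMod p) (Additive E) :=
    { toFun := ρ₀
      map_one' := LinearMap.ext fun x => eρ 1 x
      map_mul' := fun a b => LinearMap.ext fun x => by rw [Module.End.mul_apply, eρ, eρ, eρ]; rfl }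
  let W : Submodule (ZMod p) (Additive E) := AddSubgroup.toZModSubmodule p E₀.toAddSubgroup
  have mW : ∀ x, Additive.ofMul x ∈ W ↔ x ∈ E₀ := fun _ => Iff.rfl
  have zp : ∀ x y : E, y ∈ zpowers x ↔ ∃ c : ZMod p, Additive.ofMul y = c • Additive.ofMul x := fun x y =>
    ⟨fun ⟨n, hn⟩ => ⟨n, by rw [Int.cast_smul_eq_zsmul, ← hn]; rfl⟩, fun ⟨c, h⟩ => ⟨c.val, by
      rw [← ZMod.natCast_zmod_val c, Nat.cast_smul_eq_nsmul] at h
      exact (zpow_natCast _ _).trans h.symm⟩⟩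
  have cW : Nat.card E₀ = p ^ Module.finrank (ZMod p) W := by
    have := Module.natCard_eq_pow_finrank (K := ZMod p) (V := W)
    rwa [Nat.card_zmod] at this
  have cod : ∀ x, x ∉ E₀ → ∀ y, ∃ n : ℤ, (x ^ n)⁻¹ * y ∈ E₀ := fun x hx y => by
    obtain ⟨n, hn⟩ := mem_zpowers_of_prime_card (G := E ⧸ E₀) (g := x) (g' := y) hi
      fun e => hx ((QuotientGroup.eq_one_iff x).1 e)
    exact ⟨n, QuotientGroup.eq.1 hn⟩
  obtain ⟨k1, g, hg, k2, k3⟩ := lin (ρ := ρ) (E₀ := W) (z := .ofMul z) (fun e => by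
      have := (Nat.prime_dvd_prime_iff_eq hp' Nat.prime_two).1 ((ZMod.natCast_eq_zero_iff 2 p).1 e)
      exact absurd (this ▸ hp) (by decide)) hTA (fun x hx y => by
      obtain ⟨n, hn⟩ := cod x.toMul hx y.toMul
      refine ⟨n, ?_⟩
      rw [Int.cast_smul_eq_zsmul, sub_eq_neg_add]
      exact hn)
    ((Nat.pow_le_pow_iff_right hp'.one_lt).1 (cW ▸ h3)) hz hz1 hα hαz
    (fun γ hγ h => (zp _ _).1 (hΩ γ hγ h)) (fun t ht => congrArg Additive.ofMul (t1 t ht))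
    (fun t ht d hd => by
      obtain ⟨c, h⟩ := (zp _ _).1 (t2 t ht d.toMul hd)
      exact ⟨c, neg_add_eq_iff_eq_add.1 h⟩)
    (fun x hx w hw => by
      obtain ⟨t, ht, h⟩ := t4 x.toMul hx w.toMul hw
      obtain ⟨c, h⟩ := (zp _ _).1 h
      exact ⟨t, ht, c, (neg_add_eq_iff_eq_add.1 (neg_add_eq_iff_eq_add.1 h)).trans (add_assoc _ _ _).symm⟩)
    (fun x hx t ht c h => t5 x.toMul hx t ht ((zp _ _).2 ⟨c, neg_add_eq_iff_eq_add.2 h⟩))
  exact ⟨by rw [cW, k1], g, hg, (zp _ _).2 k2, fun d hd => (zp _ _).2 (k3 _ hd)⟩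

end O4

open O4 in
/-- (Pure linear algebra over `F = ZMod p`; pass to `M = Additive E` with `AddCommGroup.zmodModule`, automorphisms act linearly
(`AddMonoidHom.toZModLinearMap`), subgroups are subspaces). Suggestion: prove everything for a group `A` acting linearly on an `F`-space `M`.
Put `e = α z`, `E₁ = α E₀`, `D = E₀ ⊓ E₁`. The data `(E₁, e, α T α⁻¹, α⁻¹)` satisfy the same hypotheses as `(E₀, z, T, α)` (conjugate; `α⁻¹ e = z ∉ E₁`,
as `z ∈ E₁` gives `α⁻¹ z ∈ E₀`, `α⁻¹ z ∈ ⟨z⟩`, `e ∈ ⟨z⟩ ≤ E₀`), and `E₀ = D ⊕ ⟨z⟩`, `E₁ = D ⊕ ⟨e⟩`, `M = ⟨e⟩ ⊕ D ⊕ ⟨z⟩`, `dim D ≥ 2`.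
LEMMA 1 (use it for both data). For `w ∈ D` there is `t_w ∈ T` (`t4`, unique by `t5`) with `t_w e = e + w + f w • z`, `t_w d = d + b w d • z` (`d ∈ D`), `t_w z = z`.
`t_w t_w' = t_(w+w')` (`t5`), so `f (w + w') = f w + f w' + b w w'` and `b` is biadditive (so bilinear) and symmetric. If `f w = 0` then `t_w α z ∈ E₁`, so
`α⁻¹ t_w α z ∈ ⟨z⟩` (`hΩ`), `e + w ∈ ⟨e⟩`, `w = 0`. Let `q w = b w w / 2`, `l = f - q` (additive, so linear): `f (c w) = c² q w + c l w`. If `q w ≠ 0 ≠ l w`,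
`c = -l w / q w` is a nonzero root: impossible. If `l ≠ 0`, take `k ≠ 0` in `ker l` and `w ∉ ker l`: `q w = q (w ± k) = 0`, so `2 q k = 0`, `f k = 0`: impossible.
So `f = q` is an anisotropic quadratic form, `dim D = 2` (`exists_singular` of `CLAS/OrthEich`), `card E₀ = p ^ 3`.
Let `t'_v`, `q'`, `b'` be the primed data: `t'_v z = z + v + q' v • e`, `t'_v d = d + b' v d • e`, `t'_v e = e`.
LEMMA 2. If `γ ∈ A`, `c ≠ 0` and `c • γ z = e + w + m • z` (`w ∈ D`) then `m = q w`. Apply `t_w⁻¹`: enough `w = 0`, `m = 0`. If `m ≠ 0` choose `v` with `q' v = -1/m`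
(`exists_singular` for `q' v + t²/m` on `D × F`); `t'_v (e + m z) = m (z + v) ∈ E₀`, so in `⟨z⟩` (`hΩ`), `v = 0`: impossible.
Hence `q' = q`: `t'_v z / q' v = e + v / q' v + z / q' v` gives `q v / (q' v)² = 1 / q' v`; so also `b' = b`.
For `w ≠ 0`, `v = -w / q w`, `n_w = t'_v t_w t'_v` maps `e ↦ q w • z`, `z ↦ (q w)⁻¹ • e`, `d ↦ d - (b d w / q w) • w`. Take `w₁ ≠ 0`, `w₂ ≠ 0` with `b w₁ w₂ = 0`
(they span `D`, as `b w₁ w₁ ≠ 0`); `h = n_w₁ n_w₂` maps `z ↦ (q w₁ / q w₂) • z` and is `-1` on `D`. -/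
theorem exists_o4 {E : Type*} [Group E] [Finite E] {p : ℕ} [Fact p.Prime] (hp : Odd p) (hc : ∀ x y : E, x * y = y * x)
    (he : ∀ x : E, x ^ p = 1) {A T : Subgroup (MulAut E)} (hTA : T ≤ A) {E₀ : Subgroup E} (hi : E₀.index = p)
    (h3 : p ^ 3 ≤ Nat.card E₀) {z : E} (hz : z ∈ E₀) (hz1 : z ≠ 1) {α : MulAut E} (hα : α ∈ A) (hαz : α z ∉ E₀)
    (hΩ : ∀ γ ∈ A, γ z ∈ E₀ → γ z ∈ zpowers z) (t1 : ∀ t ∈ T, t z = z)
    (t2 : ∀ t ∈ T, ∀ d ∈ E₀, d⁻¹ * t d ∈ zpowers z) (t3 : ∀ t ∈ T, ∀ x, x⁻¹ * t x ∈ E₀)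
    (t4 : ∀ x, x ∉ E₀ → ∀ w ∈ E₀, ∃ t ∈ T, w⁻¹ * (x⁻¹ * t x) ∈ zpowers z)
    (t5 : ∀ x, x ∉ E₀ → ∀ t ∈ T, x⁻¹ * t x ∈ zpowers z → t = 1) :
    Nat.card E₀ = p ^ 3 ∧ ∃ g ∈ A, g z ∈ zpowers z ∧ ∀ d ∈ E₀, d * g d ∈ zpowers z := by
  have _ := t3
  let i : CommGroup E := { (inferInstance : Group E) with mul_comm := hc }
  exact @comm p _ E i _ (AddCommGroup.zmodModule fun x => congrArg Additive.ofMul (he x.toMul)) hp A T hTA E₀ hi
    h3 z hz hz1 α hα hαz hΩ t1 t2 t4 t5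

end CL.XI
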