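/-
S5177, case II: some conjugate `e` of `z` under the automizer of `E` lies outside `Q`; the case `C_{Q/Z}(e) = C_Q(e)/Z`.
-/
import Cfsg.Agent.FUS.XI.Tl
import Cfsg.Agent.FUS.XI.O4

set_option autoImplicit false
set_option linter.unusedSectionVars false

namespace CL.XI

open Subgroup Cfsg Cfsg.FusionSystem CL.Fus CL.ES CL.EssSm Module
open scoped commutatorElement

theorem exists_last {K M : Type*} [Field K] [AddCommGroup M] [Module K M] {f : Module.End K M} {n : ℕ} (hn : f ^ n = 0)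
    (g : Module.End K M) {v : M} (hv : g v ≠ 0) : ∃ u, g u ≠ 0 ∧ g (f u) = 0 := by
  by_contra! hc
  have : ∀ m, g ((f ^ m) v) ≠ 0 := fun m => by
    induction m with
    | zero => exact hv
    | succ m ih => rw [pow_succ']; exact hc _ ih
  exact this n (by simp [hn])

variable {G : Type*} [Group G] {p : ℕ} {F : FusionSystem (⊤ : Subgroup G)} {Q E : Subgroup G} {z : G}
variable [hp : Fact p.Prime] [Finite G]

theorem Hyp.ker_eq (h : Hyp p Q z) {a b : G} (ha : a ∉ Q) (hb : b ∉ Q) : LinearMap.ker (h.N a) = LinearMap.ker (h.N b) :=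
  Submodule.ext fun _ => ⟨fun e => h.N_eq_zero ha e b, fun e => h.N_eq_zero hb e a⟩

theorem Hyp.range_eq (h : Hyp p Q z) {a b : G} (ha : a ∉ Q) (hb : b ∉ Q) :
    LinearMap.range (h.N a) = LinearMap.range (h.N b) := by rw [h.range_N, h.range_N, h.ker_eq ha hb]

theorem Hyp.sub_cent (h : Hyp p Q z) {y : G} (hy : y ∈ Q) :
    h.sub (centralizer {y} ⊓ Q) = h.B.orthogonal ((ZMod p) ∙ h.π y) := Submodule.ext fun v => by
  obtain ⟨x, hx, rfl⟩ := h.π_surj v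
  rw [h.π_mem_sub (mem_inf.2 ⟨mem_centralizer_singleton_iff.2 (h.commute_Z (mem_zpowers z) y).eq, h.mem⟩) hx, h.mem_perp,
    h.B_eq_zero_iff hx hy, mem_inf, mem_centralizer_singleton_iff]
  exact ⟨fun e => e.1, fun e => ⟨e, hx⟩⟩

namespace Dat

variable (h : Dat p F Q z E) {α : MulAut E} (hα : α ∈ F.autGroup E) (hQ : autFun α z ∉ Q) {x y : G}
include h hα hQ

theorem e_not_Z : autFun α z ∉ zpowers z := fun e => hQ (h.Z_le e)

theorem dec (hy : y ∈ E) : ∃ q ∈ E ⊓ Q, ∃ n : ℕ, y = q * autFun α z ^ n := by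
  obtain ⟨q, hq, n, e⟩ := h.exists_dec hQ y
  exact ⟨q, ⟨by simpa [e] using mul_mem hy (inv_mem (pow_mem (autFun_mem α h.zE) n)), hq⟩, n, e⟩

theorem eq_one_of_Z (hy : y ∈ zpowers z) (h1 : autFun α y ∈ zpowers z) : y = 1 := by_contra fun e => by
  obtain ⟨n, hn⟩ := h.mem_Z_of hy e
  refine h.e_not_Z hα hQ ?_
  rw [← show y ^ n = z from hn, (isHomOn_autFun α).map_zpow (h.ZE hy), show y ^ n = z from hn]
  exact zpow_mem h1 n

theorem commE (hx : x ∈ E) (hy : y ∈ E) : Commute x y := by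
  have k : ∀ {x y}, x ∈ E → y ∈ E → ⁅x, y⁆ ∈ zpowers z := fun {x y} hx hy => by
    obtain ⟨q, hq, n, rfl⟩ := h.dec hα hQ hx
    obtain ⟨r, hr, m, rfl⟩ := h.dec hα hQ hy
    have a := commutatorElement_eq_one_iff_commute.2 ((h.commute_aut α hy).symm.pow_left n)
    have b := commutatorElement_eq_one_iff_commute.2 ((h.commute_aut α hq.1).pow_right m)
    rw [commutatorElement_mul_left_eq_conj_mul, a, mul_one, mul_inv_cancel, one_mul,
      commutatorElement_mul_right_eq_mul_conj, b, mul_one, mul_inv_cancel_right]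
    exact h.comm q hq.2 r hr.2
  refine commutatorElement_eq_one_iff_commute.1 (h.eq_one_of_Z hα hQ (k hx hy) ?_)
  rw [(isHomOn_autFun α).map_commutator hx hy]
  exact k (autFun_mem α hx) (autFun_mem α hy)

theorem powE (hx : x ∈ E) : x ^ p = 1 := by
  have k : ∀ {x}, x ∈ E → x ^ p ∈ zpowers z := fun {x} hx => by
    obtain ⟨q, hq, n, rfl⟩ := h.dec hα hQ hx
    rw [((h.commute_aut α hq.1).pow_right n).mul_pow, ← pow_mul, mul_comm, pow_mul, h.aut_pow, one_pow, mul_one]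
    exact h.pow q hq.2
  refine h.eq_one_of_Z hα hQ (k hx) ?_
  rw [(isHomOn_autFun α).map_pow hx]
  exact k (autFun_mem α hx)

theorem commutativeE : IsMulCommutative E := ⟨⟨fun a b => Subtype.ext (h.commE hα hQ a.2 b.2).eq⟩⟩

theorem mem_E (hx : Commute x (autFun α z)) : x ∈ E := h.mem_of_commute hα (h.e_not_Z hα hQ) hx

theorem isoW : ∀ v ∈ h.sub (E ⊓ Q), ∀ w ∈ h.sub (E ⊓ Q), h.B v w = 0 :=
  h.sub_isotropic fun _ ha _ hb => h.commE hα hQ ha.1 hb.1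

theorem omega {γ : MulAut E} (hγ : γ ∈ F.autGroup E) (h1 : autFun γ z ∈ Q) : autFun γ z ∈ zpowers z := by
  by_contra hn
  have h2 := h.two_mul_finrank_le (h.sub_isotropic (A := centralizer {autFun γ z} ⊓ Q) fun a ha b hb => h.commE hα hQ
    (h.mem_of_commute hγ hn (mem_centralizer_singleton_iff.1 ha.1))
    (h.mem_of_commute hγ hn (mem_centralizer_singleton_iff.1 hb.1)))
  have h3 := h.finrank_perp fun e => hn ((h.π_eq_zero_iff h1).1 e)
  have := h.four_le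
  rw [h.sub_cent h1] at h2
  omega

theorem mem_W (hx : x ∈ Q) : h.π x ∈ h.sub (E ⊓ Q) ↔ x ∈ E :=
  (h.π_mem_sub (mem_inf.2 ⟨h.zE, h.mem⟩) hx).trans ⟨fun e => e.1, fun e => ⟨e, hx⟩⟩

theorem W_le : h.sub (E ⊓ Q) ≤ LinearMap.ker (h.N (autFun α z)) := fun v hv => by
  obtain ⟨a, ha, hq, rfl⟩ := h.mem_sub.1 hv
  rw [LinearMap.mem_ker, h.N_π_eq_zero_iff _ hq, commutatorElement_eq_one_iff_commute.2 (h.commute_aut α ha.1)]
  exact one_mem _

theorem mem_norm (hx : x ∈ Q) (h1 : h.N (autFun α z) (h.π x) ∈ h.sub (E ⊓ Q)) : x ∈ normalizer (E : Set G) :=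
  mem_normalizer_of_cj_mem fun y hy => by
    obtain ⟨q, hq, n, rfl⟩ := h.dec hα hQ hy
    rw [(isHomOn_cj ⊤ x).map_mul trivial trivial, (isHomOn_cj ⊤ x).map_pow trivial, cj, cj, h.conj_eq hx hq.2]
    rw [h.N_π' _ hx, h.mem_W hα hQ (h.comm_mem_Q _ _)] at h1
    refine mul_mem (mul_mem (zpow_mem h.zE _) hq.1) (pow_mem ?_ n)
    simpa [commutatorElement_def, mul_assoc] using mul_mem (inv_mem h1) (autFun_mem α h.zE)

theorem exists_cj {t : MulAut E} (ht : t ∈ autInducedBy ⊤ E) : ∃ q ∈ Q, ∀ y ∈ E, autFun t y = q * y * q⁻¹ := by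
  obtain ⟨g, -, e⟩ := mem_autInducedBy_iff.1 ht
  obtain ⟨q, hq, n, rfl⟩ := h.exists_dec hQ g
  refine ⟨q, hq, fun y hy => ?_⟩
  rw [e hy, cj_mul, cj_eq_self_iff.2 ((h.commute_aut α hy).pow_right n).symm.eq, cj]

theorem mem_zpowers_T (hn : x ∈ normalizer (E : Set G)) (hx : x ∉ E) (h1 : E.relIndex (normalizerIn ⊤ E) = p) :
    ∀ t ∈ autInducedBy ⊤ E, t ∈ zpowers (cjAut E x hn) := fun _ ht => TV.mem_zpowers_of_card_prime
  ((relIndex_normalizerIn_of_card le_top (h.commutativeE hα hQ) (centralizerIn_le_of_isCentric h.ess.1)).symm.trans h1)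
  (cjAut_mem_autInducedBy (mem_top x) hn) (fun e => hx (h.cent ((cjAut_eq_one_iff hn).1 e))) ht

theorem norm_T {w : MulAut E} (hn : x ∈ normalizer (E : Set G)) (hx : x ∉ E) (h1 : E.relIndex (normalizerIn ⊤ E) = p)
    {k : ℤ} (hw : w * cjAut E x hn * w⁻¹ = cjAut E x hn ^ k) :
    ∀ t ∈ autInducedBy ⊤ E, w * t * w⁻¹ ∈ autInducedBy ⊤ E := fun t ht => by
  obtain ⟨n, rfl⟩ := h.mem_zpowers_T hα hQ hn hx h1 t ht
  rw [← conj_zpow, hw]
  exact zpow_mem (zpow_mem (cjAut_mem_autInducedBy (mem_top x) hn) _) n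

variable (hB : ∀ x ∈ Q, ⁅x, autFun α z⁆ ∈ zpowers z → Commute x (autFun α z))
include hB

theorem ker_eq_W : LinearMap.ker (h.N (autFun α z)) = h.sub (E ⊓ Q) :=
  le_antisymm (fun v hv => by
    obtain ⟨x, hx, rfl⟩ := h.π_surj v
    exact (h.mem_W hα hQ hx).2 (h.mem_E hα hQ (hB x hx ((h.N_π_eq_zero_iff _ hx).1 hv)))) (h.W_le hα hQ)

theorem N_sq (v : h.V) : h.N (autFun α z) (h.N (autFun α z) v) = 0 := by
  by_contra hv
  obtain ⟨v, h1, h2⟩ := exists_last (h.N_pow (autFun α z)) (h.N (autFun α z) * h.N (autFun α z)) hv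
  obtain ⟨u, hu, e⟩ := h.π_surj (h.N (autFun α z) v)
  rw [Module.End.mul_apply, ← e] at h1 h2
  have hn := h.mem_norm hα hQ hu ((h.ker_eq_W hα hQ hB).le h2)
  have huE : u ∉ E := fun hE => h1 (h.W_le hα hQ ((h.mem_W hα hQ hu).2 hE))
  obtain ⟨r, e₁, e', D, T⟩ := exists_tvData h.pgT h.sat h.ess (h.commutativeE hα hQ) (Z := E ⊓ Q) inf_le_left
    ((inf_relIndex_left _ _).trans h.relIndex_Q) (mem_top u) hn huE fun y hy => (h.B_eq_zero_iff hu hy.2).1
      (e ▸ h.B_N_ker (h.W_le hα hQ ((h.mem_W hα hQ hy.2).2 hy.1)) v)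
  obtain ⟨w, hw, w1, -, w3, w4⟩ := T.diag (-1) (-1) (by simp)
  have h3 := h.fix_of_norm hw (h.norm_T hα hQ hn huE r (w4 hn))
  obtain ⟨n, hd⟩ := T.dec z ⟨h.zE, h.mem⟩
  have h4 := w3 _ hd
  have he₁ : e₁ ∉ zpowers z := fun hZ => h1 (by
    have := zpowers_le.2 hZ (T.comm _ (inv_mem (autFun_mem α h.zE)))
    rw [h.N_π' _ hu, h.π_eq_zero_iff (h.comm_mem_Q _ _)]
    simpa [cj, commutatorElement_def, mul_assoc] using this)
  have hE₁ : e₁ ∈ E := T.mem.1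
  rw [(isHomOn_autFun w).map_mul h.zE (zpow_mem hE₁ n), (isHomOn_autFun w).map_zpow hE₁, w1,
    ← zpow_mul, neg_one_mul, zpow_neg, mul_inv_eq_iff_eq_mul, mul_assoc, ← zpow_add] at h4
  have h5 := h.eq_one_of_mem T.ord he₁ (by simpa [h4] using mul_mem (inv_mem (mem_zpowers z)) h3)
    (zpow_mem (mem_zpowers e₁) (n + n))
  have h6 : e₁ ^ n = 1 := by
    rw [← orderOf_dvd_iff_zpow_eq_one, T.ord, ← ZMod.intCast_zmod_eq_zero_iff_dvd] at h5 ⊢
    exact (mul_eq_zero.1 (by rw [← h5]; push_cast; ring : (2 : ZMod p) * n = 0)).resolve_left h.two_ne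
  rw [h6, mul_one] at hd
  exact hQ (((T.memD z).1 hd).2 α hα).2

theorem range_eq_W : LinearMap.range (h.N (autFun α z)) = h.sub (E ⊓ Q) := by
  refine le_antisymm ?_ fun w hw => h.exists_N_eq fun c hc => h.isoW hα hQ w hw c ((h.ker_eq_W hα hQ hB).le hc)
  rintro _ ⟨v, rfl⟩
  exact (h.ker_eq_W hα hQ hB).le (h.N_sq hα hQ hB v)

theorem case2 : Good p Q z := by
  have he := autFun_mem α h.zE
  have : E.Normal := normalizer_eq_top_iff.1 (CL.SR3.eq_top_of_not_mem h.idx (fun x hx => h.mem_norm hα hQ hx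
    ((h.range_eq_W hα hQ hB).le ⟨_, rfl⟩)) hQ (le_normalizer he))
  have d1 := (h.N (autFun α z)).finrank_range_add_finrank_ker
  rw [h.range_eq_W hα hQ hB, h.ker_eq_W hα hQ hB] at d1
  have d2 := h.card_sub (mem_inf.2 ⟨h.zE, h.mem⟩) inf_le_right
  have d3 : Nat.card (Q.subgroupOf E) = Nat.card (E ⊓ Q : Subgroup G) := by
    rw [← inf_subgroupOf_left, Nat.card_congr (subgroupOfEquivOfLe inf_le_left).toEquiv]
  have d4 := h.four_le
  have mZ : ∀ {x : E}, x ∈ zpowers (⟨z, h.zE⟩ : E) ↔ x.1 ∈ zpowers z :=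
    ⟨fun ⟨n, e⟩ => ⟨n, congrArg Subtype.val e⟩, fun ⟨n, e⟩ => ⟨n, Subtype.ext e⟩⟩
  obtain ⟨c3, g, hg, g1, g2⟩ := exists_o4 (p := p) h.odd (fun x y : E => Subtype.ext (h.commE hα hQ x.2 y.2).eq)
    (fun x => Subtype.ext (h.powE hα hQ x.2)) h.syl.le (E₀ := Q.subgroupOf E) h.relIndex_Q
    (by rw [d3, d2]; exact Nat.pow_le_pow_right hp.out.pos (by omega)) (z := ⟨z, h.zE⟩) h.mem
    (fun e => h.z_ne_one (congrArg Subtype.val e)) hα (fun e => hQ (autFun_of_mem α h.zE ▸ e))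
    (fun γ hγ e => mZ.2 (autFun_of_mem γ h.zE ▸ h.omega hα hQ hγ (autFun_of_mem γ h.zE ▸ e)))
    (fun t ht => by
      obtain ⟨q, -, e⟩ := h.exists_cj hα hQ ht
      exact Subtype.ext (by rw [← autFun_of_mem t h.zE, e z h.zE, h.conj_Z (mem_zpowers z)]))
    (fun t ht d hd => by
      obtain ⟨q, hq, e⟩ := h.exists_cj hα hQ ht
      refine mZ.2 ?_
      rw [Subgroup.coe_mul, ← autFun_coe, e _ d.2]
      simpa [commutatorElement_def, mul_assoc] using h.comm _ (Q.inv_mem hd) q hq)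
    (fun t ht x => by
      obtain ⟨q, hq, e⟩ := h.exists_cj hα hQ ht
      rw [mem_subgroupOf, Subgroup.coe_mul, ← autFun_coe, e _ x.2]
      simpa [commutatorElement_def, mul_assoc] using h.comm_mem_Q x.1⁻¹ q)
    (fun x hx w hw => by
      have hx' : x.1⁻¹ ∉ Q := fun e => hx (Q.inv_mem_iff.1 e)
      obtain ⟨v, hv⟩ := ((h.range_eq hx' hQ).trans (h.range_eq_W hα hQ hB)).ge ((h.mem_W hα hQ hw).2 w.2)
      obtain ⟨u, hu, rfl⟩ := h.π_surj v
      have hn : u ∈ normalizer (E : Set G) := (normalizer_eq_top E).ge trivial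
      refine ⟨cjAut E u hn, cjAut_mem_autInducedBy (mem_top u) hn, mZ.2 ?_⟩
      rw [h.N_π' _ hu, eq_comm, h.π_eq_iff hw (h.comm_mem_Q _ _)] at hv
      simpa [cjAut_apply, cj, commutatorElement_def, mul_assoc] using hv)
    (fun x hx t ht h1 => by
      obtain ⟨q, hq, e⟩ := h.exists_cj hα hQ ht
      have hx' : x.1⁻¹ ∉ Q := fun e => hx (Q.inv_mem_iff.1 e)
      have h2 := mZ.1 h1
      rw [Subgroup.coe_mul, ← autFun_coe, e _ x.2] at h2
      have h3 := h.mem_E hα hQ (hB q hq (h.comm_mem_Z hx' hq (by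
        simpa [commutatorElement_def, mul_assoc] using inv_mem h2) _))
      exact mulAut_ext_autFun fun y hy => by
        rw [e y hy, autFun_one hy, (h.commE hα hQ h3 hy).eq, mul_inv_cancel_right])
  have g3 : ∀ d ∈ E, d ∈ Q → d * autFun g d ∈ zpowers z := fun d hd hq =>
    autFun_of_mem g hd ▸ mZ.1 (g2 ⟨d, hd⟩ hq)
  have hY : AutInv (F.autGroup E ⊓ stabAut E (zpowers z) ⊓ stabAut E (E ⊓ Q)) (E ⊓ Q) :=
    fun γ hγ y hy => (hγ.2 y hy).2
  obtain ⟨c, hc, hcn⟩ := h.exists_norm (inf_le_left.trans inf_le_left) (X := zpowers z)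
    (fun γ hγ y hy => (hγ.1.2 y hy).2) hY (fun t ht => by
      obtain ⟨q, hq, e⟩ := h.exists_cj hα hQ ht
      refine ⟨⟨⟨h.syl.le ht, mem_stabAut_of_finite h.ZE fun y hy => ?_⟩, mem_stabAut_of_finite inf_le_left fun y hy =>
        ⟨autFun_mem t hy.1, e y hy.1 ▸ h.conj_mem hy.2 q⟩⟩, fun y hy hyY => ?_⟩
      · rwa [e y (h.ZE hy), h.conj_Z hy]
      · rw [e y hy]
        simpa [commutatorElement_def, mul_assoc] using h.comm _ (Q.inv_mem hyY.2) q hq)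
    (w := g) ⟨⟨hg, mem_stabAut_of_finite h.ZE fun y hy =>
      zpowers_le.2 (autFun_of_mem g h.zE ▸ mZ.1 g1) (h.aut_mem_zpowers g hy)⟩,
      mem_stabAut_of_finite inf_le_left fun y hy => ⟨autFun_mem g hy.1, by
        simpa using Q.mul_mem (Q.inv_mem hy.2) (h.Z_le (g3 y hy.1 hy.2))⟩⟩
  obtain ⟨τ, hτ⟩ := h.ext_of_normal (mul_mem hc.1.1.1 hg) hcn
  have hτQ := h.map_Q (g := autFun α z) (fun u v hu hv => h.isoW hα hQ u ((h.ker_eq_W hα hQ hB).le hu) v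
    ((h.ker_eq_W hα hQ hB).le hv)) τ
  rw [d3, d2] at c3
  have d5 := Nat.pow_right_injective hp.out.two_le c3
  refine ⟨by rw [h.card_eq, show finrank (ZMod p) h.V = 4 by omega], h.exp_of_aut τ hτQ (U := h.sub (E ⊓ Q))
    h.neg_one_ne (fun u hu => ?_) fun x hx e => ?_, _, hQ, h.aut_pow α, hB,
    fun x _ y _ e e' => h.commE hα hQ (h.mem_E hα hQ e) (h.mem_E hα hQ e')⟩
  · obtain ⟨d, hd, -, rfl⟩ := h.mem_sub.1 hu
    have h1 := g3 d hd.1 hd.2
    have h2 : autFun g d ∈ Q := by simpa using Q.mul_mem (Q.inv_mem hd.2) (h.Z_le h1)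
    have h3 := hc.2 _ (autFun_mem g hd.1) ⟨autFun_mem g hd.1, h2⟩
    rw [← autFun_mul _ _ hd.1, ← hτ d hd.1, ← h.π_eq_iff h2 (hτQ d hd.2)] at h3
    rw [h.act_π τ hτQ hd.2, ← h3, neg_one_smul, eq_neg_iff_add_eq_zero, add_comm, ← h.π_mul hd.2 h2, h.π_Z h1]
  · obtain ⟨v, hv⟩ := h.exists_N_eq (g := autFun α z) fun c hc => e c ((h.ker_eq_W hα hQ hB).le hc)
    exact h.pow_eq_one_of_N hx hv

end Dat

end CL.XI
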