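/-
S5177: the maximal class case, weights of a torus.
-/
import Cfsg.Agent.FUS.XI.Lin
import Cfsg.Agent.FUS.EigCalc
import Cfsg.Agent.SOLV.MaxClass
import Cfsg.Agent.PERM.PrimeDeg
import Cfsg.Agent.S4209
import Cfsg.Agent.S4225

set_option autoImplicit false
set_option linter.unusedSectionVars false

namespace CL.XI

open Subgroup CL.ES Module
open scoped commutatorElement

variable {G : Type*} [Group G] {p : ℕ} [Fact p.Prime] {Q : Subgroup G} {z : G}

namespace Hyp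

variable (h : Hyp p Q z) {x g g' e : G}
include h

theorem pw_mul_right (h1 : ⁅x, g'⁆ ∈ zpowers z) : ⁅x, g * g'⁆ = ⁅x, g⁆ * ⁅x, g'⁆ := by
  rw [← h.conj_Z h1 g]
  simp only [commutatorElement_def]
  group

theorem pw_pow_right (h1 : ⁅x, g⁆ ∈ zpowers z) (n : ℕ) : ⁅x, g ^ n⁆ = ⁅x, g⁆ ^ n := by
  induction n with
  | zero => simp
  | succ n ih => rw [pow_succ, h.pw_mul_right h1, ih, pow_succ]

theorem pw_pow_left (h1 : ⁅x, g⁆ ∈ zpowers z) (n : ℕ) : ⁅x ^ n, g⁆ = ⁅x, g⁆ ^ n := by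
  rw [← commutatorElement_inv, h.pw_pow_right (commutatorElement_inv x g ▸ inv_mem h1), ← inv_pow,
    commutatorElement_inv]

theorem pw_map (τ : MulAut G) {a : ℤ} (ha : τ z = z ^ a) {w : G} (hw : w ∈ zpowers z) :
    lg p z (τ w) = a * lg p z w := by
  obtain ⟨n, rfl⟩ := hw
  beta_reduce
  rw [map_zpow, ha, ← zpow_mul, mul_comm, zpow_mul, h.lg_zpow (zpow_mem_zpowers z n)]

/-- the fixed space of `e` is a line -/
theorem pw_line (hC : ∀ x ∈ Q, Commute x e → x ∈ zpowers z) : ∃ y ∈ Q, ⁅y, e⁆ ∈ zpowers z ∧ h.π y ≠ 0 ∧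
    lg p z ⁅y, e⁆ ≠ 0 ∧ ∀ x ∈ Q, ⁅x, e⁆ ∈ zpowers z → ∀ κ, lg p z ⁅x, e⁆ = κ * lg p z ⁅y, e⁆ →
      h.π x = κ • h.π y := by
  have : Nontrivial h.V := finrank_pos_iff.1 (by have := h.four_le; omega : 0 < finrank (ZMod p) h.V)
  obtain ⟨c, c1, c2⟩ := (Submodule.ne_bot_iff (LinearMap.ker (h.N e))).1 fun c => by
    obtain ⟨v, hv⟩ := exists_ne (0 : h.V)
    exact hv (Module.End.iterate_injective (LinearMap.ker_eq_bot.1 c) p (by simp [h.N_pow e]))
  obtain ⟨y, hy, rfl⟩ := h.π_surj c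
  have y1 := (h.N_π_eq_zero_iff e hy).1 c1
  refine ⟨y, hy, y1, c2, fun c => c2 (h.π_Z (hC y hy (commutatorElement_eq_one_iff_commute.1
    ((lg_eq_zero_iff h.ord y1).1 c)))), fun x hx x1 κ hκ => ?_⟩
  have e1 : ⁅x, e⁆ = ⁅y ^ κ.val, e⁆ := by
    rw [h.pw_pow_left y1]
    exact lg_inj h.ord x1 (pow_mem y1 _) (by rw [lg_pow h.ord y1, ZMod.natCast_zmod_val, hκ])
  rw [← h.π_val hy, h.π_eq_iff hx (pow_mem hy _)]
  refine hC _ (mul_mem (inv_mem hx) (pow_mem hy _)) ?_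
  generalize y ^ κ.val = w at e1
  calc x⁻¹ * w * e = x⁻¹ * ⁅w, e⁆ * e * w := by rw [commutatorElement_def]; group
    _ = e * (x⁻¹ * w) := by rw [← e1, commutatorElement_def]; group

theorem pw_N (m k : ℕ) {w : h.V} (hw : h.N e ((h.N e ^ k) w) = 0) :
    (h.N (e ^ m) ^ k) w = (m : ZMod p) ^ k • (h.N e ^ k) w := by
  have e1 : h.N (e ^ m) = (∑ i ∈ Finset.range m, h.σ e ^ i) * h.N e := by rw [N, N, geom_sum_mul, h.σ_pow]
  have e2 : Commute (∑ i ∈ Finset.range m, h.σ e ^ i) (h.N e) :=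
    Commute.sum_left _ _ _ fun i _ => ((Commute.refl _).sub_right (Commute.one_right _)).pow_left i
  rw [e1, e2.mul_pow, Module.End.mul_apply]
  generalize (h.N e ^ k) w = v at hw
  have e3 : h.σ e v = v := by rw [h.σ_apply, hw, add_zero]
  have e4 : (∑ i ∈ Finset.range m, h.σ e ^ i) v = (m : ZMod p) • v := by
    simp [LinearMap.sum_apply, Module.End.pow_apply, Function.iterate_fixed e3, Nat.cast_smul_eq_nsmul]
  induction k with
  | zero => simp
  | succ k ih => rw [pow_succ', Module.End.mul_apply, ih, map_smul, e4, smul_smul, pow_succ]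

end Hyp

theorem Hyp.pearl (h : Hyp p Q z) [Group.IsNilpotent G] {e : G} (he : e ∉ Q) (hep : e ^ p = 1)
    (hC : ∀ x ∈ Q, Commute x e → x ∈ zpowers z)
    (hτ : ∀ a b : ℤ, (a : ZMod p) * b = 1 → ∃ τ : MulAut G, τ z = z ^ a ∧ τ e = e ^ b) :
    7 ≤ p ∧ Nat.card G = p ^ (p - 1) ∧ (∀ x : G, x ^ p = 1) ∧ Group.nilpotencyClass G = p - 2 ∧
      ∃ b, b ∉ Q ∧ (∀ x ∈ Q, ⁅x, b⁆ ∈ zpowers z → Commute x b) ∧
        ∀ x ∈ Q, ∀ y ∈ Q, Commute x b → Commute y b → Commute x y := by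
  have := h.finite
  have hp : p.Prime := Fact.out
  obtain ⟨n, n2, hn, hG⟩ := h.exists_rank
  obtain ⟨y, hy, y1, c0, l0, key⟩ := h.pw_line hC
  set c := h.π y with hc
  have Nc : h.N e c = 0 := (h.N_π_eq_zero_iff e hy).2 y1
  have K1 : ∀ v, h.N e v = 0 → ∃ κ : ZMod p, v = κ • c := fun v hv => by
    obtain ⟨x, hx, rfl⟩ := h.π_surj v
    exact ⟨_, key x hx ((h.N_π_eq_zero_iff e hx).1 hv) _ (div_mul_cancel₀ _ l0).symm⟩
  have iso : ∀ u v, h.N e u = 0 → h.N e v = 0 → h.B u v = 0 := fun u v hu hv => by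
    obtain ⟨a, rfl⟩ := K1 u hu
    obtain ⟨b, rfl⟩ := K1 v hv
    simp [h.B_self]
  have ran : ∀ w, h.B w c = 0 → ∃ v, h.N e v = w := fun w hw => h.exists_N_eq fun v hv => by
    obtain ⟨a, rfl⟩ := K1 v hv
    simp [hw]
  have rk : ∀ i, h.N e ^ i = 0 → 2 * n ≤ i := fun i hi => by
    have := PermMod.finrank_ker_pow_le (h.N e) (finrank_le_one ⟨c, Nc⟩ fun v =>
      let ⟨κ, e⟩ := K1 v.1 v.2; ⟨κ, Subtype.ext e.symm⟩) i
    rwa [hi, LinearMap.ker_zero, finrank_top, hn] at this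
  have N0 : h.N e ^ (2 * n) = 0 := LinearMap.ker_eq_top.1 (top_le_iff.1 (by
    rw [← hn, ← LinearMap.ker_zero (M₂ := h.V) (τ₁₂ := RingHom.id _), ← h.N_pow e]
    exact Module.End.ker_pow_le_ker_pow_finrank _ _))
  obtain ⟨d, hd⟩ : ∃ d, 2 * n = d + 1 := ⟨2 * n - 1, by omega⟩
  obtain ⟨u, hu⟩ : ∃ u, (h.N e ^ d) u ≠ 0 := by
    by_contra! c
    have := rk d (LinearMap.ext c)
    omega
  have Nd : ∀ v, h.N e ((h.N e ^ d) v) = 0 := fun v => by
    rw [← Module.End.mul_apply, ← pow_succ', ← hd, N0, LinearMap.zero_apply]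
  have dN : ∀ v, (h.N e ^ d) (h.N e v) = 0 := fun v => by
    rw [← Module.End.mul_apply, ← pow_succ, ← hd, N0, LinearMap.zero_apply]
  obtain ⟨γ, hγ⟩ := K1 _ (Nd u)
  have γ0 : γ ≠ 0 := fun e => hu (by rw [hγ, e, zero_smul])
  have uc : h.B u c ≠ 0 := fun e => by
    obtain ⟨v, rfl⟩ := ran u e
    exact hu (dN v)
  have pn := rk p (h.N_pow e)
  have po := h.odd
  have tor : ∀ a : ZMod p, a ≠ 0 → a ^ (2 * n + 2) = 1 ∧ ∃ τ : MulAut G, ∃ hτ : ∀ x ∈ Q, τ x ∈ Q,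
      h.act τ hτ c = (a * a) • c := fun a ha => by
    obtain ⟨s, t, rfl, st⟩ := EigC.exists_int_inv ha
    obtain ⟨τ, h1, h2⟩ := hτ s t st
    have hQ := h.map_Q iso τ
    have h3 : τ e = e ^ (t : ZMod p).val := by
      rw [h2, ← zpow_natCast, zpow_eq_zpow_iff_modEq]
      exact Int.ModEq.of_dvd (Int.natCast_dvd_natCast.2 (orderOf_dvd_of_pow_eq_one hep))
        ((ZMod.intCast_eq_intCast_iff _ _ _).1 (by simp))
    have h4 : ⁅τ y, e⁆ ∈ zpowers z := h.comm_mem_Z (g := τ e) (fun c => he (by simpa using h.map_Q iso τ⁻¹ _ c))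
      (hQ y hy) (map_commutatorElement τ y e ▸ h.map_Z τ y1) e
    have h5 : h.act τ hQ c = ((s : ZMod p) * s) • c := by
      rw [hc, h.act_π τ hQ hy]
      refine key _ (hQ y hy) h4 _ ?_
      have := h.pw_map τ h1 y1
      rw [map_commutatorElement, h3, h.pw_pow_right h4, lg_pow h.ord h4, ZMod.natCast_zmod_val] at this
      linear_combination (s : ZMod p) * this - lg p z ⁅τ y, e⁆ * st
    refine ⟨?_, τ, hQ, h5⟩
    have h6 : h.act τ hQ * h.N e ^ d = h.N (τ e) ^ d * h.act τ hQ := SemiconjBy.pow_right (by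
      rw [SemiconjBy, N, N, mul_sub, sub_mul, h.act_σ, mul_one, one_mul]) d
    obtain ⟨v, hv⟩ := ran (h.act τ hQ u - (h.B (h.act τ hQ u) c / h.B u c) • u) (by simp [uc])
    have h7 := h.B_act τ hQ h1 u c
    rw [h5, map_smul, smul_eq_mul] at h7
    generalize h.B (h.act τ hQ u) c = β at hv h7
    have h8 := congrArg (fun f : Module.End (ZMod p) h.V => f u) h6
    simp only [Module.End.mul_apply] at h8
    rw [h3, h.pw_N _ _ (Nd _), eq_add_of_sub_eq hv.symm, map_add, dN, zero_add, map_smul, hγ, map_smul, h5,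
      ZMod.natCast_zmod_val, smul_smul, smul_smul, smul_smul] at h8
    have h9 := smul_left_injective _ c0 h8
    have h10 : β / h.B u c = t := by
      rw [div_eq_iff uc]
      linear_combination (t * t : ZMod p) * h7 + (t * h.B u c - β * (s * t + 1)) * st
    beta_reduce at h9
    rw [h10, ← pow_succ, ← hd, mul_comm γ, mul_left_inj' γ0] at h9
    rw [pow_add, pow_two, h9, ← _root_.mul_pow, st, one_pow]
  have e1 : 2 * n + 2 = p - 1 := by
    obtain ⟨k, hk⟩ := EigC.sub_one_dvd fun a ha => (tor a ha).1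
    obtain ⟨j, hj⟩ := po
    rcases k with _ | _ | k
    · omega
    · omega
    · rw [mul_add, mul_add] at hk
      omega
  have p7 : 7 ≤ p := by omega
  have hQp : ∀ x ∈ Q, x ^ p = 1 := by
    obtain ⟨-, τ, hQ, h1⟩ := tor 2 h.two_ne
    refine h.exp_of_aut τ hQ (U := {c}) (κ := 2 * 2) (fun c => ?_) (by simpa using h1) fun x hx h2 => ?_
    · have := Nat.le_of_dvd (by norm_num) ((ZMod.natCast_eq_zero_iff 3 p).1 (by push_cast; linear_combination c))
      omega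
    · obtain ⟨v, hv⟩ := ran _ (h2 c rfl)
      exact h.pow_eq_one_of_N hx hv
  have cl : Group.nilpotencyClass G = p - 2 := by
    have := h.normal_Z
    refine (PCyc.nilpotencyClass_of_selfCentralizing hG (A := zpowers e ⊔ zpowers z) ?_ fun g hg => ?_).trans
      (by omega)
    · have h1 := index_dvd_card ((zpowers z).subgroupOf (zpowers e))
      rw [Nat.card_zpowers, orderOf_eq_prime hep fun c => he (c ▸ one_mem _), Nat.dvd_prime hp] at h1
      rw [← ((zpowers z).subgroupOf _).card_mul_index, Nat.card_congr (subgroupOfEquivOfLe le_sup_right).toEquiv,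
        h.card_Z, pow_two]
      exact congrArg _ ((relIndex_sup_right _ _).trans (h1.resolve_left fun c =>
        he (h.Z_le (relIndex_eq_one.1 c (mem_zpowers e)))))
    · obtain ⟨q, hq, i, rfl⟩ := h.exists_dec he g
      have := hg e (mem_sup_left (mem_zpowers e))
      rw [mul_assoc, ← pow_succ, pow_succ', ← mul_assoc, ← mul_assoc] at this
      exact mul_mem (mem_sup_right (hC q hq (mul_right_cancel this).symm)) (mem_sup_left (pow_mem (mem_zpowers e) i))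
  refine ⟨p7, e1 ▸ hG, fun x => ?_, cl, ?_⟩
  · obtain ⟨H, -, hH⟩ := Cfsg.Agent.S4225.result (Cfsg.Agent.S4209.result h.pg
      (Subgroup.lowerCentralSeries_eq_bot_iff_nilpotencyClass_le.2 (by omega))) 1
    rw [pow_one] at hH
    obtain ⟨q, hq, i, rfl⟩ := h.exists_dec he x
    exact hH.le (H.mul_mem (hH.ge (hQp q hq)) (H.pow_mem (hH.ge hep) i))
  obtain ⟨v, hv⟩ : ∃ v, h.B c v ≠ 0 := by_contra fun k => c0 (h.eq_zero_of_B fun w => by_contra fun e => k ⟨w, e⟩)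
  obtain ⟨q, hq, e2⟩ := h.π_surj ((-lg p z ⁅y, e⁆ / h.B c v) • v)
  have k : ∀ x ∈ Q, ⁅x, e * q⁆ ∈ zpowers z → h.N e (h.π x) = 0 := fun x hx c => by
    rw [← h.N_mul_right hq, h.N_π_eq_zero_iff _ hx]
    exact c
  have yb : Commute y (e * q) := by
    rw [← commutatorElement_eq_one_iff_commute, h.pw_mul_right (h.comm y hy q hq),
      ← lg_eq_zero_iff (p := p) h.ord (mul_mem y1 (h.comm y hy q hq)), lg_mul h.ord y1 (h.comm y hy q hq),
      ← h.B_π hy hq, e2, map_smul, smul_eq_mul, div_mul_cancel₀ _ hv, add_neg_cancel]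
  refine ⟨e * q, fun c => he ((Q.mul_mem_cancel_right hq).1 c), fun x hx c => ?_, fun x hx w hw h1 h2 =>
    (h.B_eq_zero_iff hx hw).1 (iso _ _ (k x hx (h1.commutator_eq ▸ one_mem _)) (k w hw (h2.commutator_eq ▸ one_mem _)))⟩
  obtain ⟨κ, hκ⟩ := K1 _ (k x hx c)
  rw [hc, ← h.π_val hy, eq_comm, h.π_eq_iff (pow_mem hy _) hx] at hκ
  rw [← mul_inv_cancel_left (y ^ κ.val) x]
  exact (yb.pow_left _).mul_left (h.commute_Z hκ _)

end CL.XI
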