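/-
S5177, case II: the case of a pearl.
-/
import Cfsg.Agent.FUS.XI.C2
import Cfsg.Agent.FUS.XI.PW

set_option autoImplicit false
set_option linter.unusedSectionVars false

namespace CL.XI

open Subgroup Cfsg Cfsg.FusionSystem CL.Fus CL.ES CL.EssSm Module
open scoped commutatorElement

theorem eq_top_of_nilp {K M : Type*} [Field K] [AddCommGroup M] [Module K M] {f : Module.End K M} {n : ℕ} (hn : f ^ n = 0)
    {U : Submodule K M} (hU : ∀ u ∈ U, f u ∈ U) (h : U ⊔ LinearMap.range f = ⊤) : U = ⊤ := by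
  have k : ∀ m, ∀ v, ∃ u ∈ U, ∃ w, v = u + (f ^ m) w := fun m => by
    induction m with
    | zero => exact fun v => ⟨0, U.zero_mem, v, by simp⟩
    | succ m ih =>
      intro v
      obtain ⟨u, hu, _, ⟨w, rfl⟩, rfl⟩ := Submodule.mem_sup.1 (h.ge (Submodule.mem_top (x := v)))
      obtain ⟨u', hu', w', rfl⟩ := ih w
      exact ⟨u + f u', U.add_mem hu (hU _ hu'), w', by rw [map_add, pow_succ', add_assoc]; rfl⟩
  refine top_unique fun v _ => ?_
  obtain ⟨u, hu, w, rfl⟩ := k n v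
  simpa [hn] using hu

variable {G : Type*} [Group G] {p : ℕ} {F : FusionSystem (⊤ : Subgroup G)} {Q E : Subgroup G} {z : G}
variable [hp : Fact p.Prime] [Finite G]

theorem Hyp.card_cent (h : Hyp p Q z) {y : G} (hy : y ∈ Q) (hz : y ∉ zpowers z) :
    p ^ 4 ≤ Nat.card (centralizer ({y} : Set G)) := by
  have h1 := h.card_sub (A := centralizer {y} ⊓ Q)
    (mem_inf.2 ⟨mem_centralizer_singleton_iff.2 (h.commute_Z (mem_zpowers z) y).eq, h.mem⟩) inf_le_right
  rw [h.sub_cent hy, h.finrank_perp fun e => hz ((h.π_eq_zero_iff hy).1 e)] at h1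
  exact ((Nat.pow_le_pow_right hp.out.pos h.four_le).trans h1.ge).trans (card_le_of_le inf_le_left)

/-- in the uniserial case the elements outside `Q` of a proper overgroup of `e` are conjugate to powers of `e` -/
theorem Hyp.exists_conj (h : Hyp p Q z) {e x y : G} (he : e ∉ Q) (hx : x ∈ Q) (x1 : ⁅x, e⁆ ∈ zpowers z)
    (hC : ∀ x ∈ Q, ∀ ε, ε ∉ Q → ε ∈ zpowers e → Commute x ε → x ∈ zpowers z) (xZ : x ∉ zpowers z)
    (hK : finrank (ZMod p) (LinearMap.ker (h.N e)) ≤ 1) {R : Subgroup G} (hR : R ≠ ⊤) (heR : e ∈ R) (hz : z ∈ R)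
    (hy : y ∈ R) (hyQ : y ∉ Q) : ∃ g, cj g y ∈ zpowers e := by
  obtain ⟨q, hq, n, rfl⟩ := h.exists_dec he y
  have hqR : q ∈ R := by simpa using mul_mem hy (inv_mem (pow_mem heR n))
  have hε : e ^ n ∉ Q := fun e => hyQ (mul_mem hq e)
  have h1 : h.π q ∈ LinearMap.range (h.N (e ^ n)) := by
    rw [h.range_eq hε he]
    by_contra hn
    have h2 := eq_top_of_nilp (h.N_pow e) (U := h.sub R) (fun u hu => by
      obtain ⟨a, ha, ha', rfl⟩ := h.mem_sub.1 hu
      rw [h.N_π' e ha', h.π_mem_sub hz (h.comm_mem_Q _ _)]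
      exact mul_mem (mul_mem (mul_mem heR ha) (inv_mem heR)) (inv_mem ha)) (by
        have := (h.N e).finrank_range_add_finrank_ker
        have := Submodule.finrank_lt_finrank_of_lt (show LinearMap.range (h.N e) < h.sub R ⊔ LinearMap.range (h.N e) from
          lt_of_le_of_ne le_sup_right fun e' => hn (e'.ge (Submodule.mem_sup_left ((h.π_mem_sub hz hq).2 hqR))))
        exact Submodule.eq_top_of_finrank_eq (le_antisymm (Submodule.finrank_le _) (by omega)))
    exact hR (CL.SR3.eq_top_of_not_mem h.idx (fun a ha => (h.π_mem_sub hz ha).1 (h2.ge trivial)) he heR)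
  obtain ⟨v, hv⟩ := h1
  obtain ⟨u, hu, e1⟩ := h.π_surj (-v)
  rw [← neg_neg v, map_neg, ← e1, h.N_π' _ hu, ← h.π_inv (h.comm_mem_Q _ _),
    commutatorElement_inv, h.π_eq_iff (h.comm_mem_Q _ _) hq] at hv
  have x2 := h.comm_mem_Z he hx x1 (e ^ n)
  obtain ⟨m, hm⟩ := TV.mem_zpowers_of_card_prime h.card_Z x2
    (fun e' => xZ (hC x hx _ hε (pow_mem (mem_zpowers e) n) (commutatorElement_eq_one_iff_commute.1 e'))) hv
  refine ⟨(u * x ^ m)⁻¹, n, ?_⟩
  have h3 : ⁅x ^ m, e ^ n⁆ = ⁅u, e ^ n⁆⁻¹ * q := by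
    rw [← hm]
    exact PG.commutator_zpow_left (h.commute_Z x2 x).symm m
  rw [← h3] at hv
  have h6 : cj (u * x ^ m) (e ^ n) = q * e ^ n := by
    rw [cj_mul, show cj (x ^ m) (e ^ n) = ⁅x ^ m, e ^ n⁆ * e ^ n by rw [commutatorElement_def, inv_mul_cancel_right, cj],
      (isHomOn_cj ⊤ u).map_mul trivial trivial, cj, h.conj_Z hv, show cj u (e ^ n) = ⁅u, e ^ n⁆ * e ^ n by
        rw [commutatorElement_def, inv_mul_cancel_right, cj], ← mul_assoc, (h.commute_Z hv _).eq, h3, mul_inv_cancel_left]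
  rw [← h6, cj_inv_cj]
  exact zpow_natCast e n

namespace Dat

variable (h : Dat p F Q z E) {α : MulAut E} (hα : α ∈ F.autGroup E) (hQ : autFun α z ∉ Q) {x y : G}
  (hx : x ∈ Q) (x1 : ⁅x, autFun α z⁆ ∈ zpowers z) (x2 : x ∉ E)
include h hα hQ hx x1 x2

theorem x_norm : x ∈ normalizer (E : Set G) :=
  h.mem_norm hα hQ hx (((h.N_π_eq_zero_iff _ hx).2 x1).symm ▸ Submodule.zero_mem _)

theorem relIndex_L : (E ⊓ centralizer {x}).relIndex E = p := by
  let f : E →* zpowers z := MonoidHom.mk' (fun y => ⟨⁅x, y.1⁆, h.comm_mem_Z hQ hx x1 y⟩) fun a b =>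
    Subtype.ext (PG.commutator_mul_right_of_commute (h.commute_Z (h.comm_mem_Z hQ hx x1 b) a).symm)
  have e : (E ⊓ centralizer {x}).subgroupOf E = f.ker := Subgroup.ext fun y => by
    rw [mem_subgroupOf, mem_inf, mem_centralizer_singleton_iff, MonoidHom.mem_ker, Subtype.ext_iff]
    exact ⟨fun e => commutatorElement_eq_one_iff_commute.2 e.2.symm,
      fun e => ⟨y.2, (commutatorElement_eq_one_iff_commute.1 e).symm⟩⟩
  refine CL.SR3.relIndex_eq h.pg ?_ fun hle => x2 (h.mem_E hα hQ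
    (mem_centralizer_singleton_iff.1 (hle (autFun_mem α h.zE)).2).symm)
  rw [relIndex, e, index_ker, ← h.card_Z]
  exact card_le_card_group _

theorem tv : E.relIndex (normalizer (E : Set G)) = p ∧ ∃ e e' D, TvData F p E (E ⊓ centralizer {x}) x e e' D :=
  normalizerIn_top E ▸ exists_tvData h.pgT h.sat h.ess (h.commutativeE hα hQ) inf_le_left (h.relIndex_L hα hQ hx x1 x2)
    (mem_top x) (h.x_norm hα hQ hx x1 x2) x2 fun _ hy => (mem_centralizer_singleton_iff.1 hy.2).symm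

theorem N_of_W {v : h.V} (hv : h.N (autFun α z) v ∈ h.sub (E ⊓ Q)) : h.N (autFun α z) v = 0 := by
  obtain ⟨u, hu, rfl⟩ := h.π_surj v
  have := h.normal_Z
  refine (h.N_π_eq_zero_iff _ hu).2 (CL.SR3.mem_ce.1 (CL.SR3.le_of_not_le (h.tv hα hQ hx x1 x2).1 le_normalizer
    (fun y hy => CL.SR3.mem_ce.2 ?_) (h.x_norm hα hQ hx x1 x2) x2 (CL.SR3.mem_ce.2 x1) (h.mem_norm hα hQ hu hv)))
  rw [commutatorElement_eq_one_iff_commute.2 (h.commute_aut α hy)]
  exact one_mem _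

theorem E0_le (hy : y ∈ E) (hyQ : y ∈ Q) : y ∈ zpowers z := by
  have r := (h.tv hα hQ hx x1 x2).1
  have k : ∀ u ∈ Q, h.N (autFun α z) (h.π u) = 0 → u ∈ normalizer (E : Set G) := fun u hu e =>
    h.mem_norm hα hQ hu (e.symm ▸ Submodule.zero_mem _)
  obtain ⟨v, hv⟩ : ∃ v, (h.N (autFun α z)) v ≠ 0 := by
    by_contra! hn
    have h1 : E.relIndex Q ≤ p := (relIndex_le_of_le_right (fun u hu => k u hu (hn _)) (r ▸ hp.out.ne_zero)).trans r.le
    have h2 := card_eq_mul_relIndex (A := E) (B := Q)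
    have h3 := h.two_mul_finrank_le (h.isoW hα hQ)
    have h4 := h.four_le
    rw [h.card_Q, h.card_sub (mem_inf.2 ⟨h.zE, h.mem⟩) inf_le_right] at h2
    have h5 := h2.le.trans (Nat.mul_le_mul_left _ h1)
    rw [← pow_succ, Nat.pow_le_pow_iff_right hp.out.one_lt] at h5
    omega
  obtain ⟨v, h1, h2⟩ := exists_last (h.N_pow (autFun α z)) _ hv
  obtain ⟨u, hu, e⟩ := h.π_surj (h.N (autFun α z) v)
  have huE : u ∉ E := fun hE => h1 (h.N_of_W hα hQ hx x1 x2 (e ▸ (h.mem_W hα hQ hu).2 hE))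
  have hyW := (h.mem_W hα hQ hyQ).2 hy
  have h3 : normalizer (E : Set G) ≤ centralizer {y} := CL.SR3.le_of_not_le r le_normalizer
    (fun a ha => mem_centralizer_singleton_iff.2 (h.commE hα hQ ha hy).eq) (k u hu (e ▸ h2)) huE
    (mem_centralizer_singleton_iff.2 ((h.B_eq_zero_iff hu hyQ).1 (e ▸ h.B_N_ker (h.W_le hα hQ hyW) v)).eq)
  obtain ⟨w, hw⟩ := h.exists_N_eq (g := autFun α z) (w := h.π y) fun c hc => by
    obtain ⟨a, ha, rfl⟩ := h.π_surj c
    exact (h.B_eq_zero_iff hyQ ha).2 (mem_centralizer_singleton_iff.1 (h3 (k a ha hc))).symm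
  exact (h.π_eq_zero_iff hyQ).1 (hw ▸ h.N_of_W hα hQ hx x1 x2 (hw ▸ hyW))

theorem card_E : Nat.card E = p ^ 2 := by
  rw [card_eq_mul_relIndex (A := Q) (B := E), h.relIndex_Q, show Q ⊓ E = zpowers z from
    le_antisymm (fun y hy => h.E0_le hα hQ hx x1 x2 hy.2 hy.1) (le_inf h.Z_le h.ZE), h.card_Z, sq]

theorem ker_le : finrank (ZMod p) (LinearMap.ker (h.N (autFun α z))) ≤ 1 := by
  have r := (h.tv hα hQ hx x1 x2).1
  have h1 := h.card_sub (A := normalizer (E : Set G) ⊓ Q) (mem_inf.2 ⟨le_normalizer h.zE, h.mem⟩) inf_le_right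
  have h2 := card_eq_mul_relIndex (A := Q) (B := normalizer (E : Set G))
  have h3 := card_eq_mul_relIndex (A := E) (B := normalizer (E : Set G))
  rw [inf_eq_left.2 le_normalizer, r, h.card_E hα hQ hx x1 x2, h2, inf_comm, h1,
    CL.SR3.relIndex_of_not_le h.pg h.idx fun e => h.notle (le_normalizer.trans e), ← pow_succ, ← pow_succ] at h3
  have h4 := Nat.pow_right_injective hp.out.two_le h3
  refine (Submodule.finrank_mono (t := h.sub (normalizer (E : Set G) ⊓ Q)) fun v hv => ?_).trans (by omega)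
  obtain ⟨u, hu, rfl⟩ := h.π_surj v
  exact h.mem_sub.2 ⟨u, ⟨h.mem_norm hα hQ hu ((LinearMap.mem_ker.1 hv).symm ▸ Submodule.zero_mem _), hu⟩, hu, rfl⟩

theorem cent_eps {u ε : G} (hu : u ∈ Q) (h1 : ε ∉ Q) (h2 : ε ∈ E) (h3 : Commute u ε) : u ∈ zpowers z := by
  have r : (zpowers z).relIndex E = p := Nat.eq_of_mul_eq_mul_left hp.out.pos (by
    have := card_eq_mul_relIndex (A := zpowers z) (B := E)
    rwa [inf_eq_left.2 h.ZE, h.card_Z, h.card_E hα hQ hx x1 x2, sq, eq_comm] at this)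
  have : E ≤ centralizer {u} := CL.SR3.le_of_not_le r h.ZE
    (fun a ha => mem_centralizer_singleton_iff.2 (h.commute_Z ha u).eq) h2 (fun e => h1 (h.Z_le e))
    (mem_centralizer_singleton_iff.2 h3.symm.eq)
  exact h.E0_le hα hQ hx x1 x2 (h.cent fun y hy => mem_centralizer_singleton_iff.1 (this hy)) hu

theorem not_norm_le {R : Subgroup G} (hR : F.IsEssential p R) : ¬ normalizer (E : Set G) ≤ R := fun hle => by
  have hE := le_normalizer.trans hle
  have hzR := hE h.zE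
  have he := autFun_mem α h.zE
  have hR' := (lt_of_essential h.pgT h.sat hR).ne
  have iZ : AutInv (F.autGroup R) (zpowers z) := fun β hβ y _ hy => Hyp.mor_Z (mor_autFun le_top hβ) hzR
    (h.max R _ (mor_autFun le_top hβ) hzR (Fus.card_lt_of_lt (h.lt_normalizer.trans_le hle) le_top)) hy
  have iQ : AutInv (F.autGroup R) Q := fun β hβ y hy hyQ => by
    by_contra hn
    have hyZ : y ∉ zpowers z := fun e => hn (h.Z_le (iZ β hβ y hy e))
    obtain ⟨g, n, hg⟩ := h.exists_conj hQ hx x1 (fun u hu ε h1 h2 => h.cent_eps hα hQ hx x1 x2 hu h1 (zpowers_le.2 he h2))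
      (fun e => x2 (h.ZE e)) (h.ker_le hα hQ hx x1 x2) hR' (hE he) hzR (autFun_mem β hy) hn
    have m1 : Mor F (zpowers y) (cj g ∘ autFun β) := ((mor_autFun le_top hβ).mono (zpowers_le.2 hy)).cj_comp trivial
    have m2 := (mor_autFun le_top (inv_mem hα)).comp m1 fun _ ⟨m, e⟩ => by
      rw [← e, m1.map_zpow (mem_zpowers y), Function.comp_apply, ← hg]
      exact zpow_mem (zpow_mem he n) m
    have h1 := h.card_le m2 (mem_zpowers y) (by
      rw [Function.comp_apply, Function.comp_apply, ← hg, (isHomOn_autFun _).map_zpow he, autFun_inv_autFun α h.zE]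
      exact zpow_mem (mem_zpowers z) n) hyZ
    have h2 := (h.card_cent hyQ hyZ).trans h1
    rw [h.card_E hα hQ hx x1 x2, Nat.pow_le_pow_iff_right hp.out.one_lt] at h2
    omega
  have := h.normal
  refine hR' (CL.SR3.eq_top_of_not_mem h.idx (le_of_radical_of_chain h.pgT (centralizerIn_le_of_isCentric hR.1)
    (isRadical_of_essential h.pgT h.sat hR) le_top (by rw [normalizer_eq_top]; exact le_top) fun a ha hn =>
      ⟨⊤, le_top, ((Relation.ReflTransGen.single (stabStep_of_commutator (autInv_bot _) iZ ?_ ha hn)).tail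
        (stabStep_of_commutator iZ iQ ?_ ha hn)).tail (stabStep_of_commutator iQ (autInv_of_le _ le_top) ?_ ha hn)⟩) hQ (hE he))
  · exact commutator_le.2 fun a _ b hb => commutatorElement_eq_one_iff_commute.2 (h.commute_Z hb a).symm
  · exact commutator_le.2 h.comm
  · exact commutator_le.2 fun a _ b _ => h.comm_mem_Q a b

theorem case3 [Group.IsNilpotent G] : 7 ≤ p ∧ Nat.card G = p ^ (p - 1) ∧ (∀ x : G, x ^ p = 1) ∧
    Group.nilpotencyClass G = p - 2 ∧ ∃ b, b ∉ Q ∧ (∀ x ∈ Q, ⁅x, b⁆ ∈ zpowers z → Commute x b) ∧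
      ∀ x ∈ Q, ∀ y ∈ Q, Commute x b → Commute y b → Commute x y := by
  obtain ⟨r, e₁, e', D, T⟩ := h.tv hα hQ hx x1 x2
  have hn := h.x_norm hα hQ hx x1 x2
  have he := autFun_mem α h.zE
  have h1 : e' ∉ Q := fun e => T.notMem' ⟨T.mem', mem_centralizer_singleton_iff.2
    (h.commute_Z (h.E0_le hα hQ hx x1 x2 T.mem' e) x).eq⟩
  have h2 : z ∈ zpowers e₁ := by
    have a := T.comm _ (inv_mem he)
    have b : (autFun α z)⁻¹⁻¹ * cj x (autFun α z)⁻¹ = ⁅x, autFun α z⁆⁻¹ := by simp [cj, commutatorElement_def, mul_assoc]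
    rw [b, inv_mem_iff] at a
    exact zpowers_le.2 a (h.mem_Z_of x1 fun e => x2 (h.mem_E hα hQ (commutatorElement_eq_one_iff_commute.1 e)))
  refine h.pearl h1 (h.powE hα hQ T.mem') (fun u hu => h.cent_eps hα hQ hx x1 x2 hu h1 T.mem') fun a b hab => ?_
  obtain ⟨w, hw, w1, w2, -, w4⟩ := T.diag a b hab
  obtain ⟨τ, hτ⟩ := h.ext (fun _ hR => h.not_norm_le hα hQ hx x1 x2 hR) hw
    (h.norm_T hα hQ hn x2 (normalizerIn_top E ▸ r) (w4 hn))
  have hE₁ : e₁ ∈ E := T.mem.1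
  obtain ⟨n, hz⟩ := h2
  refine ⟨τ, ?_, (hτ _ T.mem').trans w2⟩
  rw [← show e₁ ^ n = z from hz, map_zpow, hτ _ hE₁, w1, ← zpow_mul, ← zpow_mul, mul_comm]

end Dat

end CL.XI
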