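/-
S5177: recognition of the presentations in a group of order `p ^ 6`.
-/
import Cfsg.Agent.FUS.XI.Lin
import Cfsg.Agent.FUS.XI.Rel

set_option autoImplicit false

namespace CL.XI

open Subgroup
open scoped commutatorElement

namespace En

open Module

variable {k V : Type*} [Field k] [AddCommGroup V] [Module k V] [FiniteDimensional k V]

/-- a unipotent isometry `1 + N` of a symplectic space of dimension four with isotropic fixed space -/
structure Un (B : LinearMap.BilinForm k V) (N : Module.End k V) : Prop where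
  two : (2 : k) ≠ 0
  self : ∀ v, B v v = 0
  sw : ∀ u v, B u v = -B v u
  nd : ∀ v, (∀ w, B v w = 0) → v = 0
  bn : ∀ u v, B (N u) v + B u (N v) + B (N u) (N v) = 0
  ran : ∀ w, (∀ c, N c = 0 → B w c = 0) → ∃ v, N v = w
  iso : ∀ u v, N u = 0 → N v = 0 → B u v = 0
  dim : finrank k V = 4
  ker : finrank k (LinearMap.ker N) ≤ 2
  nil : ∀ v, N (N (N (N v))) = 0

theorem span4 (h4 : finrank k V = 4) {a b c d : V}
    (h : ∀ x y z w : k, x • a + y • b + z • c + w • d = 0 → x = 0 ∧ y = 0 ∧ z = 0 ∧ w = 0)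
    {W : Submodule k V} (ha : a ∈ W) (hb : b ∈ W) (hc : c ∈ W) (hd : d ∈ W) : W = ⊤ := by
  have l : LinearIndependent k ![a, b, c, d] := Fintype.linearIndependent_iff.2 fun g e i => by
    obtain ⟨e0, e1, e2, e3⟩ := h (g 0) (g 1) (g 2) (g 3) (by simpa [Fin.sum_univ_four] using e)
    fin_cases i <;> assumption
  refine top_le_iff.1 ((l.span_eq_top_of_card_eq_finrank' (by simp [h4])).ge.trans (Submodule.span_le.2 ?_))
  rintro _ ⟨i, rfl⟩
  fin_cases i <;> assumption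

variable {B : LinearMap.BilinForm k V} {N : Module.End k V} (h : Un B N)
include h

theorem Un.caseI (h2 : ∀ v, N (N v) = 0) : ∃ u0 u1, B u0 u1 = 0 ∧ B u0 (N u0) ≠ 0 ∧ B u0 (N u1) = 0 ∧
    B u1 (N u0) = 0 ∧ B u1 (N u1) ≠ 0 ∧ B (N u0) (N u1) = 0 ∧
    ∀ W : Submodule k V, u0 ∈ W → u1 ∈ W → N u0 ∈ W → N u1 ∈ W → W = ⊤ := by
  have nn : ∀ u v, B (N u) (N v) = 0 := fun u v => h.iso _ _ (h2 u) (h2 v)
  have sy : ∀ u v, B u (N v) = B v (N u) := fun u v => by
    linear_combination h.bn u v - nn u v - h.sw (N u) v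
  have pol : ∀ W : Submodule k V, (∀ u ∈ W, B u (N u) = 0) → ∀ u ∈ W, ∀ v ∈ W, B u (N v) = 0 :=
    fun W e u hu v hv => mul_left_cancel₀ h.two (by
      have := e _ (add_mem hu hv)
      simp only [map_add, LinearMap.add_apply] at this
      linear_combination this - e u hu - e v hv + sy u v)
  have rad : ∀ u, (∀ v, B v (N u) = 0) → u ∈ LinearMap.ker N := fun u e =>
    h.nd _ fun w => by rw [h.sw, e, neg_zero]
  obtain ⟨u0, h0⟩ : ∃ u0, B u0 (N u0) ≠ 0 := by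
    by_contra! e
    have : ⊤ ≤ LinearMap.ker N := fun u _ => rad u fun v => pol ⊤ (fun u _ => e u) v trivial u trivial
    have := Submodule.finrank_mono this
    rw [finrank_top, h.dim] at this
    have := h.ker
    omega
  obtain ⟨u1, e1, h1⟩ : ∃ u1, B u0 (N u1) = 0 ∧ B u1 (N u1) ≠ 0 := by
    by_contra! e
    let f : V →ₗ[k] k := (B u0).comp N
    have : LinearMap.ker f ≤ LinearMap.ker N := fun u hu => rad u fun v => by
      have hu : B u0 (N u) = 0 := hu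
      have := pol (LinearMap.ker f) e (v - (B u0 (N v) / B u0 (N u0)) • u0) (by
        show B u0 (N _) = 0
        simp only [map_sub, map_smul, smul_eq_mul]; field_simp; ring) u hu
      simpa [hu] using this
    have := Submodule.finrank_mono this
    have := f.finrank_range_add_finrank_ker
    have := (Submodule.finrank_le (LinearMap.range f)).trans (finrank_self k).le
    have := h.ker
    have := h.dim
    omega
  obtain ⟨u, e2, e3⟩ : ∃ u, N u = N u0 ∧ B u u1 = 0 := ⟨u0 + (B u0 u1 / B u1 (N u1)) • N u1, by simp [h2], by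
    simp only [map_add, map_smul, LinearMap.add_apply, LinearMap.smul_apply, smul_eq_mul, h.sw (N u1) u1]
    field_simp; ring⟩
  have a0 : B u (N u) ≠ 0 := by rwa [e2, sy, e2]
  have a1 : B u1 (N u) = 0 := by rw [e2, sy, e1]
  have a2 : B u (N u1) = 0 := by rw [sy, a1]
  refine ⟨u, u1, e3, a0, a2, a1, h1, nn _ _, fun W => span4 h.dim fun x y z w e => ?_⟩
  have f := fun v => congrArg (fun t => B t v) e
  simp only [map_add, map_smul, LinearMap.add_apply, LinearMap.smul_apply, smul_eq_mul, map_zero,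
    LinearMap.zero_apply] at f
  have f0 := f (N u)
  have f1 := f (N u1)
  have f2 := f u
  have f3 := f u1
  rw [h.sw u1 u, h.sw (N u) u, h.sw (N u1) u] at f2
  rw [h.sw (N u) u1, h.sw (N u1) u1] at f3
  simp [nn, a0, a1, a2, e3, h1, h.self] at f0 f1 f2 f3
  exact ⟨f0, f1, f2, f3⟩

theorem Un.three {v : V} (h2 : N (N v) ≠ 0) : finrank k (LinearMap.ker N) ≤ 1 ∧ ∃ u, N (N (N u)) ≠ 0 := by
  have h1 : finrank k (LinearMap.ker N) ≤ 1 := by
    by_contra! e
    have l : LinearMap.ker N ≤ LinearMap.range N := fun w hw => h.ran w fun c hc => h.iso _ _ hw hc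
    have := N.finrank_range_add_finrank_ker
    have := h.dim
    have := Submodule.eq_of_le_of_finrank_le l (by omega)
    exact h2 (this.ge ⟨v, rfl⟩)
  refine ⟨h1, ?_⟩
  by_contra! e
  have K : ∀ c, N c = 0 → ∃ a : k, a • N (N v) = c := fun c hc => Submodule.mem_span_singleton.1
    ((Submodule.eq_of_le_of_finrank_le (S₁ := k ∙ N (N v)) (S₂ := LinearMap.ker N)
      ((Submodule.span_singleton_le_iff_mem _ _).2 (e v)) (by rwa [finrank_span_singleton h2])).ge hc)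
  have : ⊤ ≤ Submodule.span k (Set.range ![v, N v, N (N v)]) := fun w _ => by
    obtain ⟨a, ha⟩ := K _ (e w)
    obtain ⟨b, hb⟩ := K (N (w - a • v)) (by simp [ha])
    obtain ⟨c, hc⟩ := K (w - a • v - b • N v) (by rw [map_sub, ← hb]; simp)
    exact (Submodule.mem_span_range_iff_exists_fun k).2 ⟨![a, b, c], by simp [Fin.sum_univ_three, hc]⟩
  have := (Submodule.finrank_mono this).trans (finrank_range_le_card _)
  rw [finrank_top, h.dim] at this
  simp at this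

theorem Un.caseII (h6 : (6 : k) ≠ 0) (h1 : finrank k (LinearMap.ker N) ≤ 1) {v : V} (h3 : N (N (N v)) ≠ 0) :
    ∃ u, B u (N u) ≠ 0 ∧ B u (N (N u)) = 6 * B u (N u) ∧ B u (N (N (N u))) = 6 * B u (N u) ∧
      B (N u) (N (N u)) = -(6 * B u (N u)) ∧ B (N u) (N (N (N u))) = 0 ∧ B (N (N u)) (N (N (N u))) = 0 ∧
      ∀ W : Submodule k V, u ∈ W → N u ∈ W → N (N u) ∈ W → N (N (N u)) ∈ W → W = ⊤ := by
  have g13 : ∀ u w, B (N u) (N (N (N w))) = 0 := fun u w => by simpa [h.nil] using h.bn u (N (N (N w)))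
  have g12 : ∀ u, B (N u) (N (N u)) = -B u (N (N (N u))) := fun u => by
    linear_combination h.bn u (N (N u)) - g13 u u
  have g02 : ∀ u, B u (N (N u)) = B u (N (N (N u))) := fun u => by
    linear_combination h.bn u (N u) - h.self (N u) - g12 u
  have δ : B v (N (N (N v))) ≠ 0 := fun e => by
    obtain ⟨w, rfl⟩ := h.ran v fun c hc => by
      obtain ⟨a, rfl⟩ := Submodule.mem_span_singleton.1
        ((Submodule.eq_of_le_of_finrank_le (S₁ := k ∙ N (N (N v))) (S₂ := LinearMap.ker N)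
          ((Submodule.span_singleton_le_iff_mem _ _).2 (h.nil v)) (by rwa [finrank_span_singleton h3])).ge hc)
      simp [e]
    exact h3 (h.nil w)
  obtain ⟨u, e1, e2⟩ : ∃ u, B u (N (N (N u))) ≠ 0 ∧ B u (N (N (N u))) = 6 * B u (N u) := by
    have two := h.two
    refine ⟨v + ((B v (N (N (N v))) / 6 - B v (N v)) / (2 * B v (N (N (N v))))) • N (N v), ?_, ?_⟩
    · simpa [h.nil, g13] using δ
    · simp only [map_add, map_smul, LinearMap.add_apply, LinearMap.smul_apply, smul_eq_mul, h.nil, map_zero,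
        g13, h.sw (N (N v)) (N v), g12, smul_zero]
      field_simp; ring
  have e3 : B u (N u) ≠ 0 := fun e => e1 (by rw [e2, e, mul_zero])
  refine ⟨u, e3, (g02 u).trans e2, e2, by rw [g12, e2], g13 _ _, g13 _ _,
    fun W => span4 h.dim fun x y z w e => ?_⟩
  have f := fun v => congrArg (fun t => B t v) e
  simp only [map_add, map_smul, LinearMap.add_apply, LinearMap.smul_apply, smul_eq_mul, map_zero,
    LinearMap.zero_apply] at f
  have f0 := f (N (N (N u)))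
  have f1 := f (N (N u))
  have f2 := f (N u)
  have f3 := f u
  rw [h.sw (N (N (N u))) (N (N u)), g12] at f1
  rw [h.sw (N (N (N u))) (N u), h.sw (N (N u)) (N u), g12] at f2
  rw [h.sw (N (N (N u))) u] at f3
  simp [g13, e1] at f0
  simp [g13, e1, h.self, f0] at f1
  simp [g13, e1, h.self, f0, f1] at f2
  simp [e1, f0, f1, f2] at f3
  exact ⟨f0, f1, f2, f3⟩

end En

open En CL.ES

variable {G : Type*} [Group G] {p : ℕ} [Fact p.Prime] {Q : Subgroup G} {z : G}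

/-- (Linear algebra in `V = h.V`, API in `XI/Lin`). `finrank V = 4` (`card_eq`), `N = h.N b`, `K = ker N`. By `h1`, `h2`, `K` is isotropic
(`N_π_eq_zero_iff`, `B_eq_zero_iff`), so `finrank K ≤ 2` (`two_mul_finrank_le`); `N ^ p = 0` (`N_pow`), so `K ≠ 0` and `N ^ 4 = 0`
(`IsNilpotent` + `Module.End.isNilpotent_iff_of_finite`/charpoly, or the chain of kernels). For `x ∈ Q` put `x⁺ = x⁻¹ * (b * x * b⁻¹) ∈ Q`:
`b x b⁻¹ = x x⁺`, `π x⁺ = N (π x)` (`N_π`); if `N (π y) = 0` then `b y b⁻¹ = y` (`h1`). Commutators: `comm_eq`, `zpw_add`, `zpw_zero`, `lg_*`.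
Generation: if `w ≠ 1` is in `zpowers z` then `zpowers w = zpowers z`; if the images of `x0..x3` span `V`, the closure `H` has `h.sub H = ⊤`,
so `Q ≤ H` (`π_mem_sub`), and `b ∉ Q` gives `H = ⊤` (`SR3.eq_top_of_not_mem`).
Case `finrank K = 2`: `range N = K^⊥ = K` (`range_N`, dimensions), so `N² = 0`, `B (N u) (N v) = 0`, and `β u v = B u (N v)` is symmetric (`B_N`, `B_swap`)
with radical `K` (`eq_zero_of_B`: `β v u = 0 ∀ v ⇒ N u = 0`). Pick `u0` with `β u0 u0 ≠ 0` (else `β = 0` by polarization, `two_ne`), `u ∉ K + ⟨u0⟩`,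
`u1 = u - (β u0 u / β u0 u0) u0`, so `β u0 u1 = 0`, `V = K + ⟨u0, u1⟩`, `β u1 u1 ≠ 0` (else `u1 ∈ K`), `K = range N = ⟨N u0, N u1⟩`. Replace `u0` by
`u0 + c N u1` with `B u0 u1 = 0` (`β` does not change). Lift to `x0`, `x1`; `x2 = x0⁺`, `x3 = x1⁺`, `w = ⁅x0,x2⁆ = zpw z (β u0 u0)`,
`k = (β u1 u1 / β u0 u0).val`.
Case `finrank K = 1`: `finrank (ker N ^ i) ≤ i`, so `N ^ 3 ≠ 0`, hence `p > 3` (`N_pow`), `p ≥ 5`. Pick `u` with `N³ u ≠ 0`; `u_i = N ^ i u` (`i ≤ 3`) is a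
basis, `g_ij = B u_i u_j`. `B_N` gives `g13 = g23 = 0`, `g12 = -g03`, `g02 = -g12`; `δ = g03 ≠ 0` by nondegeneracy. Replacing `u` by `u + λ N² u` keeps
`δ` and changes `g01` to `g01 + 2 λ δ`: make `6 g01 = δ`. Lift `u` to `x0`, `x1 = x0⁺`, `x2 = x1⁺`, `x3 = x2⁺`, `w = ⁅x0,x1⁆ = zpw z g01`. -/
theorem Hyp.final (h : Hyp p Q z) (h6 : Nat.card G = p ^ 6) (hQ : ∀ x ∈ Q, x ^ p = 1) {b : G} (hb : b ∉ Q) (hbp : b ^ p = 1)
    (h1 : ∀ x ∈ Q, ⁅x, b⁆ ∈ zpowers z → Commute x b)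
    (h2 : ∀ x ∈ Q, ∀ y ∈ Q, Commute x b → Commute y b → Commute x y) :
    (∃ k : ℤ, (k : ZMod p) ≠ 0 ∧ ∃ x0 x1 x2 x3 w : G, RelB p k b x0 x1 x2 x3 w ∧ center G = zpowers w ∧
      closure ({b, x0, x1, x2, x3, w} : Set G) = ⊤) ∨
    (5 ≤ p ∧ ∃ x0 x1 x2 x3 w : G, RelG p b x0 x1 x2 x3 w ∧ center G = zpowers w ∧
      closure ({b, x0, x1, x2, x3, w} : Set G) = ⊤) := by
  have := h.finite
  have hp : p.Prime := Fact.out
  have d4 : Module.finrank (ZMod p) h.V = 4 := by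
    have := Nat.pow_right_injective hp.two_le (h.card_eq.symm.trans h6)
    omega
  have fix : ∀ x ∈ Q, h.N b (h.π x) = 0 → Commute x b := fun x hx e => h1 x hx ((h.N_π_eq_zero_iff b hx).1 e)
  have iso : ∀ u v, h.N b u = 0 → h.N b v = 0 → h.B u v = 0 := fun u v hu hv => by
    obtain ⟨x, hx, rfl⟩ := h.π_surj u
    obtain ⟨y, hy, rfl⟩ := h.π_surj v
    exact (h.B_eq_zero_iff hx hy).2 (h2 x hx y hy (fix x hx hu) (fix y hy hv))
  have U : Un h.B (h.N b) := ⟨h.two_ne, h.B_self, h.B_swap, fun _ => h.eq_zero_of_B, h.B_N b,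
    fun _ => h.exists_N_eq, iso, d4, by
      have := h.two_mul_finrank_le (W := LinearMap.ker (h.N b)) fun v hv w hw => iso v w hv hw
      omega, fun v => by
      have := Module.End.ker_pow_le_ker_pow_finrank (h.N b) p (show v ∈ _ by simp [h.N_pow])
      rw [d4] at this
      exact this⟩
  obtain ⟨s, s1, s2, s3⟩ : ∃ s : G → G, (∀ x ∈ Q, s x ∈ Q) ∧ (∀ x, b * x * b⁻¹ = x * s x) ∧
      ∀ x ∈ Q, h.π (s x) = h.N b (h.π x) := ⟨fun x => x⁻¹ * (b * x * b⁻¹),
    fun x hx => mul_mem (inv_mem hx) (h.conj_mem hx b), fun x => by group, fun x hx => (h.N_π b hx).symm⟩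
  have fix' : ∀ x ∈ Q, h.N b (h.π x) = 0 → b * x * b⁻¹ = x := fun x hx e => by
    rw [← (fix x hx e).eq, mul_inv_cancel_right]
  have zm : ∀ a c : ZMod p, zpw z (c * a) = zpw z a ^ c.val := fun a c => lg_inj h.ord (zpw_mem _)
    (pow_mem (zpw_mem _) _) (by rw [lg_pow h.ord (zpw_mem _), lg_zpw h.ord, lg_zpw h.ord, ZMod.natCast_zmod_val])
  have cen : ∀ a : ZMod p, a ≠ 0 → center G = zpowers (zpw z a) := fun a ha => by
    rw [h.cen]
    refine le_antisymm (zpowers_le.2 ?_) (zpowers_le.2 (zpw_mem a))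
    have := pow_mem (mem_zpowers (zpw z a)) (a⁻¹).val
    rwa [← zm, inv_mul_cancel₀ ha, zpw_one h.ord] at this
  have gen : ∀ x0 x1 x2 x3 w : G, center G = zpowers w → (∀ W : Submodule (ZMod p) h.V, h.π x0 ∈ W → h.π x1 ∈ W →
      h.π x2 ∈ W → h.π x3 ∈ W → W = ⊤) → x0 ∈ Q → x1 ∈ Q → x2 ∈ Q → x3 ∈ Q →
      closure ({b, x0, x1, x2, x3, w} : Set G) = ⊤ := fun x0 x1 x2 x3 w hw hW m0 m1 m2 m3 => by
    have hz : z ∈ closure ({b, x0, x1, x2, x3, w} : Set G) :=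
      zpowers_le.2 (subset_closure (by simp)) (hw.le (h.cen.ge (mem_zpowers z)))
    have := hW (h.sub _) ((h.π_mem_sub hz m0).2 (subset_closure (by simp)))
      ((h.π_mem_sub hz m1).2 (subset_closure (by simp))) ((h.π_mem_sub hz m2).2 (subset_closure (by simp)))
      ((h.π_mem_sub hz m3).2 (subset_closure (by simp)))
    exact CL.SR3.eq_top_of_not_mem h.idx (fun x hx => (h.π_mem_sub hz hx).1 (this.ge trivial)) hb
      (subset_closure (by simp))
  have cz : ∀ (a : ZMod p) (g : G), Commute (zpw z a) g := fun a g => h.commute_Z (zpw_mem a) g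
  by_cases e : ∀ v, h.N b (h.N b v) = 0
  · obtain ⟨u0, u1, a1, a2, a3, a4, a5, a6, a7⟩ := U.caseI e
    obtain ⟨x0, m0, rfl⟩ := h.π_surj u0
    obtain ⟨x1, m1, rfl⟩ := h.π_surj u1
    have m2 := s1 _ m0
    have m3 := s1 _ m1
    refine .inl ⟨(h.B (h.π x1) (h.N b (h.π x1)) / h.B (h.π x0) (h.N b (h.π x0))).val, by
      rw [Int.cast_natCast, ZMod.natCast_zmod_val]; exact div_ne_zero a5 a2, x0, x1, s x0, s x1,
      zpw z (h.B (h.π x0) (h.N b (h.π x0))), ⟨hbp, hQ _ m0, hQ _ m1, hQ _ m2, hQ _ m3, h.pow_Z (zpw_mem _),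
      s2 _, s2 _, fix' _ m2 (by rw [s3 _ m0, e]), fix' _ m3 (by rw [s3 _ m1, e]), ?_, ?_, ?_, ?_, ?_, ?_,
      cz _ _, cz _ _, cz _ _, cz _ _, cz _ _⟩, cen _ a2,
      gen _ _ _ _ _ (cen _ a2) (by rwa [s3 _ m0, s3 _ m1]) m0 m1 m2 m3⟩
    · rw [h.comm_eq m0 m1, a1, zpw_zero]
    · rw [h.comm_eq m0 m2, s3 _ m0]
    · rw [h.comm_eq m0 m3, s3 _ m1, a3, zpw_zero]
    · rw [h.comm_eq m1 m2, s3 _ m0, a4, zpw_zero]
    · rw [h.comm_eq m1 m3, s3 _ m1, zpow_natCast, ← zm, div_mul_cancel₀ _ a2]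
    · rw [h.comm_eq m2 m3, s3 _ m0, s3 _ m1, a6, zpw_zero]
  · obtain ⟨v, hv⟩ := not_forall.1 e
    obtain ⟨k1, v, hv⟩ := U.three hv
    have p5 : 5 ≤ p := by
      by_contra! l
      have l2 := hp.two_le
      have l3 := h.N_pow b
      interval_cases p
      · exact h.ne_two rfl
      · exact hv (LinearMap.congr_fun l3 v)
      · exact absurd hp (by decide)
    have h6' : (6 : ZMod p) ≠ 0 := fun e => by
      have := (ZMod.natCast_eq_zero_iff 6 p).1 e
      rcases (Nat.Prime.dvd_mul hp (m := 2) (n := 3)).1 this with l | l <;> have := Nat.le_of_dvd (by decide) l <;>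
        omega
    obtain ⟨u, a1, a2, a3, a4, a5, a6, a7⟩ := U.caseII h6' k1 hv
    obtain ⟨x0, m0, rfl⟩ := h.π_surj u
    have m1 := s1 _ m0
    have m2 := s1 _ m1
    have m3 := s1 _ m2
    have z6 : ∀ a : ZMod p, zpw z (6 * a) = zpw z a ^ 6 := fun a => lg_inj h.ord (zpw_mem _)
      (pow_mem (zpw_mem _) _) (by rw [lg_pow h.ord (zpw_mem _), lg_zpw h.ord, lg_zpw h.ord, Nat.cast_ofNat])
    refine .inr ⟨p5, x0, s x0, s (s x0), s (s (s x0)), zpw z (h.B (h.π x0) (h.N b (h.π x0))),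
      ⟨hbp, hQ _ m0, hQ _ m1, hQ _ m2, hQ _ m3, h.pow_Z (zpw_mem _), s2 _, s2 _, s2 _,
      fix' _ m3 (by rw [s3 _ m2, s3 _ m1, s3 _ m0, U.nil]), ?_, ?_, ?_, ?_, ?_, ?_,
      cz _ _, cz _ _, cz _ _, cz _ _, cz _ _⟩, cen _ a1,
      gen _ _ _ _ _ (cen _ a1) (by rwa [s3 _ m2, s3 _ m1, s3 _ m0]) m0 m1 m2 m3⟩
    · rw [h.comm_eq m0 m1, s3 _ m0]
    · rw [h.comm_eq m0 m2, s3 _ m1, s3 _ m0, a2, z6]
    · rw [h.comm_eq m0 m3, s3 _ m2, s3 _ m1, s3 _ m0, a3, z6]
    · rw [h.comm_eq m1 m2, s3 _ m1, s3 _ m0, a4, ← z6, eq_inv_iff_mul_eq_one, ← zpw_add h.ord, neg_add_cancel,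
        zpw_zero]
    · rw [h.comm_eq m1 m3, s3 _ m2, s3 _ m1, s3 _ m0, a5, zpw_zero]
    · rw [h.comm_eq m2 m3, s3 _ m2, s3 _ m1, s3 _ m0, a6, zpw_zero]

end CL.XI
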