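/-
S5177: a group of order `p ^ 6` with one of the two presentations is a Sylow subgroup of any model.
-/
import Cfsg.Agent.FUS.XI.Rel
import Cfsg.Agent.ORD.AFT

set_option autoImplicit false

namespace CL.XI

open Subgroup

variable {G M : Type*} [Group G] [Group M] {p : ℕ} {k : ℤ} {b x0 x1 x2 x3 z : G} {b' y0 y1 y2 y3 z' : M}

namespace Pc

open scoped commutatorElement Pointwise

/-- the subgroup generated by `s` has at most `n` elements -/
def Bd (n : ℕ) (s : Set G) : Prop := Finite (closure s) ∧ Nat.card (closure s) ≤ n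

theorem Bd.step {n : ℕ} {s : Set G} (h : Bd n s) (hp : 0 < p) {g : G} (gp : g ^ p = 1)
    (hn : ∀ x ∈ s, g * x * g⁻¹ ∈ closure s) : Bd (p * n) (insert g s) := by
  have := h.1
  have fo : IsOfFinOrder g := isOfFinOrder_iff_pow_eq_one.2 ⟨p, hp, gp⟩
  have nz : zpowers g ≤ normalizer (closure s : Set G) := zpowers_le.2 (mem_normalizer_fintype
    fun x hx => (closure_le ((closure s).comap (MulAut.conj g).toMonoidHom)).2 hn hx)
  have e : ((closure (insert g s) : Subgroup G) : Set G) = (zpowers g : Set G) * closure s := by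
    rw [← coe_mul_of_left_le_normalizer_right _ _ nz, Set.insert_eq, Subgroup.closure_union, zpowers_eq_closure]
  have f1 : (zpowers g : Set G).Finite := fo.finite_zpowers
  refine ⟨?_, ?_⟩
  · exact (e ▸ f1.mul (Set.toFinite _) : Set.Finite _)
  · change Nat.card ((closure (insert g s) : Subgroup G) : Set G) ≤ _
    rw [e]
    refine Set.natCard_mul_le.trans (Nat.mul_le_mul ?_ h.2)
    exact (Nat.card_zpowers g).trans_le (orderOf_le_of_pow_eq_one hp gp)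

theorem cj {x y w : G} (h : ⁅x, y⁆ = w) : x * y * x⁻¹ = w * y := by
  rw [← h, commutatorElement_def]; group

/-- the common shape of the two presentations -/
theorem bd (hp : 0 < p) (pb : b ^ p = 1) (p0 : x0 ^ p = 1) (p1 : x1 ^ p = 1) (p2 : x2 ^ p = 1)
    (p3 : x3 ^ p = 1) (pz : z ^ p = 1)
    (hb : ∀ x ∈ ({x0, x1, x2, x3} : Set G), ∃ y ∈ ({1, x1, x2, x3} : Set G), b * x * b⁻¹ = x * y)
    (c01 : ⁅x0, x1⁆ ∈ zpowers z) (c02 : ⁅x0, x2⁆ ∈ zpowers z) (c03 : ⁅x0, x3⁆ ∈ zpowers z)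
    (c12 : ⁅x1, x2⁆ ∈ zpowers z) (c13 : ⁅x1, x3⁆ ∈ zpowers z) (c23 : ⁅x2, x3⁆ ∈ zpowers z)
    (zb : Commute z b) (z0 : Commute z x0) (z1 : Commute z x1) (z2 : Commute z x2)
    (z3 : Commute z x3) : Bd (p ^ 6) ({b, x0, x1, x2, x3, z} : Set G) := by
  have h0 : Bd 1 (∅ : Set G) := ⟨by rw [Subgroup.closure_empty]; infer_instance,
    by rw [Subgroup.closure_empty, card_bot]⟩
  have kz : ∀ {g : G} {s : Set G}, Commute z g → z ∈ s → g * z * g⁻¹ ∈ closure s := fun c m => by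
    rw [← c.eq, mul_inv_cancel_right]; exact subset_closure m
  have kc : ∀ {g x : G} {s : Set G}, ⁅g, x⁆ ∈ zpowers z → z ∈ s → x ∈ s → g * x * g⁻¹ ∈ closure s :=
    fun c m m' => by
      rw [cj rfl]
      exact mul_mem (zpowers_le.2 (subset_closure m) c) (subset_closure m')
  have h1 := h0.step hp pz (by simp)
  have h2 := h1.step hp p3 (by
    rintro _ (rfl | ⟨⟨⟩⟩); exact kz z3 (by simp))
  have h3 := h2.step hp p2 (by
    rintro _ (rfl | rfl | ⟨⟨⟩⟩)
    exacts [kc c23 (by simp) (by simp), kz z2 (by simp)])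
  have h4 := h3.step hp p1 (by
    rintro _ (rfl | rfl | rfl | ⟨⟨⟩⟩)
    exacts [kc c12 (by simp) (by simp), kc c13 (by simp) (by simp), kz z1 (by simp)])
  have h5 := h4.step hp p0 (by
    rintro _ (rfl | rfl | rfl | rfl | ⟨⟨⟩⟩)
    exacts [kc c01 (by simp) (by simp), kc c02 (by simp) (by simp), kc c03 (by simp) (by simp),
      kz z0 (by simp)])
  have h6 := h5.step hp pb fun x hx => by
    by_cases e : x = z
    · rw [e]; exact kz zb (by simp)
    have m : x ∈ ({x0, x1, x2, x3} : Set G) := by simpa [e] using hx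
    obtain ⟨y, hy, e⟩ := hb x m
    rw [e]
    refine mul_mem (subset_closure hx) ?_
    rcases hy with e | e | e | e <;> rw [e]
    exacts [one_mem _, subset_closure (by simp), subset_closure (by simp), subset_closure (by simp)]
  rw [show p ^ 6 = p * (p * (p * (p * (p * (p * 1))))) by ring]
  simpa only [insert_empty_eq] using h6

theorem fin [Fact p.Prime] (hG : Nat.card G = p ^ 6) (hc : center G = zpowers z) (pz : z ^ p = 1)
    (hg : closure ({b, x0, x1, x2, x3, z} : Set G) = ⊤)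
    (h : Bd (p ^ 6) ({(b, b'), (x0, y0), (x1, y1), (x2, y2), (x3, y3), (z, z')} : Set (G × M)))
    (hz : z' ≠ 1) (hM : ¬ p ^ 7 ∣ Nat.card M) :
    ∃ P : Sylow p M, Nonempty (G ≃* (P : Subgroup M)) := by
  have hp : p.Prime := Fact.out
  have : Finite M := Nat.finite_of_card_ne_zero fun e => hM (e ▸ dvd_zero _)
  have : Finite G := Nat.finite_of_card_ne_zero (hG ▸ pow_ne_zero _ hp.ne_zero)
  set H := closure ({(b, b'), (x0, y0), (x1, y1), (x2, y2), (x3, y3), (z, z')} : Set (G × M))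
  have sj : Function.Surjective ((MonoidHom.fst G M).comp H.subtype) := by
    rw [← MonoidHom.range_eq_top, MonoidHom.range_comp, range_subtype, MonoidHom.map_closure, ← hg]
    simp only [Set.image_insert_eq, Set.image_singleton, MonoidHom.coe_fst]
  let e := MulEquiv.ofBijective _ (sj.bijective_of_nat_card_le (hG ▸ h.2))
  let ψ : G →* M := ((MonoidHom.snd G M).comp H.subtype).comp e.symm.toMonoidHom
  have ψz : ψ z = z' := by
    have : e.symm z = ⟨(z, z'), subset_closure (by simp)⟩ := e.symm_apply_eq.2 rfl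
    simp [ψ, this]
  have pG : IsPGroup p G := IsPGroup.of_card hG
  have inj : Function.Injective ψ := by
    rw [← MonoidHom.ker_eq_bot_iff]
    by_contra hne
    have := pG.isNilpotent
    obtain ⟨⟨w, w1, w2⟩, hw⟩ := ne_bot_iff_exists_ne_one.1
      (CL.inf_center_ne_bot_of_isNilpotent ψ.ker hne)
    have z1 : z ≠ 1 := fun e => hz (ψz ▸ e ▸ map_one ψ)
    have w3 : w ∈ zpowers z := hc ▸ w2
    have oz := orderOf_eq_prime pz z1
    have : Fact (Nat.card (zpowers z)).Prime := ⟨by rwa [Nat.card_zpowers, oz]⟩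
    rcases (ψ.ker.subgroupOf (zpowers z)).eq_bot_or_eq_top_of_prime_card with e | e
    · have : (⟨w, w3⟩ : zpowers z) = 1 := mem_bot.1 (e.le w1)
      exact hw (Subtype.ext (congrArg (·.1) this))
    · exact hz (ψz ▸ (e.ge (mem_top ⟨z, mem_zpowers z⟩) : z ∈ ψ.ker))
  obtain ⟨P, hP⟩ := (pG.of_surjective _ ψ.rangeRestrict_surjective).exists_le_sylow
  have c : Nat.card ψ.range = p ^ 6 := (Nat.card_congr (MonoidHom.ofInjective inj).toEquiv).symm.trans hG
  obtain ⟨n, hn⟩ := P.isPGroup'.exists_card_eq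
  have n6 : n ≤ 6 := by
    by_contra k
    exact hM ((pow_dvd_pow p (by omega)).trans (hn ▸ card_subgroup_dvd_card (P : Subgroup M)))
  refine ⟨P, ⟨(MonoidHom.ofInjective inj).trans (MulEquiv.subgroupCongr (eq_of_le_of_card_ge hP ?_))⟩⟩
  rw [c, hn]
  exact Nat.pow_le_pow_right hp.pos n6

end Pc

/-- Proof (the same for both theorems, about 120 lines in all).
(1) Step lemma: if `g ^ p = 1` (`0 < p`), `g` normalizes `H` (enough: `H` finite, `H = closure s`, `g x g⁻¹ ∈ H` for `x ∈ s`), then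
`H ⊔ zpowers g` is finite of order `≤ p * card H` (every element is `h * g ^ i`, `i < p`).
(2) In any group with the relations apply (1) along `⊥ ≤ ⟨z⟩ ≤ ⟨z,x3⟩ ≤ ⟨z,x3,x2⟩ ≤ … ≤ ⟨z,x3,x2,x1,x0⟩ ≤ ⟨…,b⟩`
(`x_i x_j x_i⁻¹ = ⁅x_i,x_j⁆ x_j`): `closure {b,x0,x1,x2,x3,z}` has order `≤ p ^ 6`.
(3) The relations hold in `G × M` for the pairs `(b,b')`, … (`Prod.ext`); `M` is finite as `card M ≠ 0`. Let `H ≤ G × M` be generated
by the pairs. `fst : H → G` is onto (`hg`), `card H ≤ p ^ 6 = card G`, so it is bijective; `ψ = snd ∘ fst⁻¹ : G →* M` has `ψ z = z'`.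
(4) `ψ` is injective: a nontrivial normal subgroup `ker ψ` of the `p`-group `G` meets `center G = zpowers z` (order `p`, as `z ^ p = 1`
and `z ≠ 1`) nontrivially, so contains `z`, against `z' ≠ 1`.
(5) `ψ.range` is a `p`-group of order `p ^ 6`; it lies in a Sylow `P` (`IsPGroup.exists_le_sylow`), `card P = p ^ n ∣ card M`, so `n ≤ 6`
and `P = ψ.range`. -/
theorem RelB.exists_sylow [Fact p.Prime] (hG : Nat.card G = p ^ 6) (hc : center G = zpowers z)
    (hg : closure ({b, x0, x1, x2, x3, z} : Set G) = ⊤) (h : RelB p k b x0 x1 x2 x3 z)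
    (h' : RelB p k b' y0 y1 y2 y3 z') (hz : z' ≠ 1) (hM : ¬ p ^ 7 ∣ Nat.card M) :
    ∃ P : Sylow p M, Nonempty (G ≃* (P : Subgroup M)) := by
  have r : RelB p k (b, b') (x0, y0) (x1, y1) (x2, y2) (x3, y3) (z, z') :=
    ⟨Prod.ext h.pb h'.pb, Prod.ext h.p0 h'.p0, Prod.ext h.p1 h'.p1, Prod.ext h.p2 h'.p2,
      Prod.ext h.p3 h'.p3, Prod.ext h.pz h'.pz, Prod.ext h.b0 h'.b0, Prod.ext h.b1 h'.b1,
      Prod.ext h.b2 h'.b2, Prod.ext h.b3 h'.b3, Prod.ext h.c01 h'.c01, Prod.ext h.c02 h'.c02,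
      Prod.ext h.c03 h'.c03, Prod.ext h.c12 h'.c12, Prod.ext h.c13 h'.c13, Prod.ext h.c23 h'.c23,
      h.zb.prod h'.zb, h.z0.prod h'.z0, h.z1.prod h'.z1, h.z2.prod h'.z2, h.z3.prod h'.z3⟩
  refine Pc.fin hG hc h.pz hg (Pc.bd (Fact.out : p.Prime).pos r.pb r.p0 r.p1 r.p2 r.p3 r.pz ?_
    (r.c01 ▸ one_mem _) (r.c02 ▸ mem_zpowers _) (r.c03 ▸ one_mem _) (r.c12 ▸ one_mem _)
    (r.c13 ▸ zpow_mem (mem_zpowers _) k) (r.c23 ▸ one_mem _) r.zb r.z0 r.z1 r.z2 r.z3) hz hM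
  rintro _ (rfl | rfl | rfl | rfl)
  exacts [⟨_, by simp, r.b0⟩, ⟨_, by simp, r.b1⟩, ⟨1, by simp, r.b2.trans (mul_one _).symm⟩,
    ⟨1, by simp, r.b3.trans (mul_one _).symm⟩]

/-- See `RelB.exists_sylow`. -/
theorem RelG.exists_sylow [Fact p.Prime] (hG : Nat.card G = p ^ 6) (hc : center G = zpowers z)
    (hg : closure ({b, x0, x1, x2, x3, z} : Set G) = ⊤) (h : RelG p b x0 x1 x2 x3 z)
    (h' : RelG p b' y0 y1 y2 y3 z') (hz : z' ≠ 1) (hM : ¬ p ^ 7 ∣ Nat.card M) :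
    ∃ P : Sylow p M, Nonempty (G ≃* (P : Subgroup M)) := by
  have r : RelG p (b, b') (x0, y0) (x1, y1) (x2, y2) (x3, y3) (z, z') :=
    ⟨Prod.ext h.pb h'.pb, Prod.ext h.p0 h'.p0, Prod.ext h.p1 h'.p1, Prod.ext h.p2 h'.p2,
      Prod.ext h.p3 h'.p3, Prod.ext h.pz h'.pz, Prod.ext h.b0 h'.b0, Prod.ext h.b1 h'.b1,
      Prod.ext h.b2 h'.b2, Prod.ext h.b3 h'.b3, Prod.ext h.c01 h'.c01, Prod.ext h.c02 h'.c02,
      Prod.ext h.c03 h'.c03, Prod.ext h.c12 h'.c12, Prod.ext h.c13 h'.c13, Prod.ext h.c23 h'.c23,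
      h.zb.prod h'.zb, h.z0.prod h'.z0, h.z1.prod h'.z1, h.z2.prod h'.z2, h.z3.prod h'.z3⟩
  refine Pc.fin hG hc h.pz hg (Pc.bd (Fact.out : p.Prime).pos r.pb r.p0 r.p1 r.p2 r.p3 r.pz ?_
    (r.c01 ▸ mem_zpowers _) (r.c02 ▸ pow_mem (mem_zpowers _) 6) (r.c03 ▸ pow_mem (mem_zpowers _) 6)
    (r.c12 ▸ inv_mem (pow_mem (mem_zpowers _) 6)) (r.c13 ▸ one_mem _) (r.c23 ▸ one_mem _)
    r.zb r.z0 r.z1 r.z2 r.z3) hz hM
  rintro _ (rfl | rfl | rfl | rfl)
  exacts [⟨_, by simp, r.b0⟩, ⟨_, by simp, r.b1⟩, ⟨_, by simp, r.b2⟩,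
    ⟨1, by simp, r.b3.trans (mul_one _).symm⟩]

end CL.XI
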