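/-
S5177: the relations `RelB` in `SL₄(p)` and `SU₄(p)`.
-/
import Cfsg.Agent.FUS.XI.Rel
import Cfsg.Agent.S0278
import Cfsg.Agent.S0242

set_option autoImplicit false

namespace CL.XI

variable {p : ℕ} [Fact p.Prime] {k : ℤ}

namespace SLU

open Matrix
open scoped MatrixGroups commutatorElement

variable {K : Type*} [CommRing K]

/-- unitriangular matrices -/
def U (a b c d e f : K) : SL(4, K) := ⟨!![1, a, b, c; 0, 1, d, e; 0, 0, 1, f; 0, 0, 0, 1], by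
  rw [Matrix.det_of_isUpperTriangular (by
    intro i j h; fin_cases i <;> fin_cases j <;> first | rfl | exact absurd h (by decide))]
  simp [Fin.prod_univ_four]⟩

theorem U_mul (a b c d e f a' b' c' d' e' f' : K) : U a b c d e f * U a' b' c' d' e' f' =
    U (a + a') (b + a * d' + b') (c + a * e' + b * f' + c') (d + d') (e + d * f' + e') (f + f') :=
  Subtype.ext (by
    change (U a b c d e f).1 * (U a' b' c' d' e' f').1 = _
    ext i j
    fin_cases i <;> fin_cases j <;> simp [U, Matrix.mul_apply, Fin.sum_univ_four] <;> ring)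

theorem U_one : (1 : SL(4, K)) = U 0 0 0 0 0 0 := Subtype.ext (by
  ext i j
  fin_cases i <;> fin_cases j <;> simp [U])

theorem U_ext {a b c d e f a' b' c' d' e' f' : K} (h1 : a = a') (h2 : b = b') (h3 : c = c')
    (h4 : d = d') (h5 : e = e') (h6 : f = f') : U a b c d e f = U a' b' c' d' e' f' := by
  rw [h1, h2, h3, h4, h5, h6]

theorem U_pow {a b c d e f : K} (h1 : a * d = 0) (h2 : a * e + b * f = 0) (h3 : d * f = 0) (n : ℕ) :
    U a b c d e f ^ n = U (n * a) (n * b) (n * c) (n * d) (n * e) (n * f) := by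
  induction n with
  | zero => simp [U_one]
  | succ n ih =>
    rw [pow_succ, ih, U_mul]
    push_cast
    exact U_ext (by ring) (by linear_combination n * h1) (by linear_combination n * h2) (by ring)
      (by linear_combination n * h3) (by ring)

theorem U_zpow (c : K) (n : ℤ) : U 0 0 c 0 0 0 ^ n = U 0 0 (n * c) 0 0 0 := by
  obtain ⟨m, rfl | rfl⟩ := n.eq_nat_or_neg
  · rw [zpow_natCast, U_pow] <;> simp
  · rw [_root_.zpow_neg, zpow_natCast, U_pow (by simp) (by simp) (by simp), inv_eq_iff_mul_eq_one, U_mul,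
      U_one]
    simp

theorem rel {p : ℕ} [CharP K p] {k : ℤ} (t : K) {l : K} (hl : l * l = -k) :
    RelB p k (U 0 0 0 t 0 0) (U (-1) 0 0 0 0 1) (U l 0 0 0 0 l) (U 0 t t 0 t 0)
      (U 0 (-(t * l)) (-(t * l * l)) 0 (t * l) 0) (U 0 0 (-(2 * t)) 0 0 0) := by
  have c : ∀ {x y w : SL(4, K)}, x * y = w * y * x → ⁅x, y⁆ = w := fun e => by
    rw [commutatorElement_def, e]; group
  refine ⟨?_, ?_, ?_, ?_, ?_, ?_, mul_inv_eq_iff_eq_mul.2 ?_, mul_inv_eq_iff_eq_mul.2 ?_,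
    mul_inv_eq_iff_eq_mul.2 ?_, mul_inv_eq_iff_eq_mul.2 ?_, c ?_, c ?_, c ?_, c ?_, c ?_, c ?_,
    (?_ : _ = _), (?_ : _ = _), (?_ : _ = _), (?_ : _ = _), (?_ : _ = _)⟩
  iterate 6 rw [U_pow (by ring) (by ring) (by ring), U_one]; simp
  all_goals simp only [U_zpow, U_one, U_mul]
  all_goals refine U_ext ?_ ?_ ?_ ?_ ?_ ?_
  all_goals first | ring1 | linear_combination (2 * t) * hl

theorem z_ne {t : K} (h : 2 * t ≠ 0) : U 0 0 (-(2 * t)) 0 0 0 ≠ 1 := fun e => h (by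
  have := congrArg (fun M : SL(4, K) => M.1 0 3) e
  simpa [U] using this)

/-- conjugation -/
def cj {P P' : Matrix (Fin 4) (Fin 4) K} (h : P' * P = 1) : SL(4, K) →* SL(4, K) :=
  MonoidHom.mk' (fun M => ⟨P * M.1 * P', by
    rw [det_mul, det_mul, M.2, mul_one, mul_comm, ← det_mul, h, det_one]⟩) fun M N => Subtype.ext (by
      change P * (M.1 * N.1) * P' = P * M.1 * P' * (P * N.1 * P')
      rw [show P * M.1 * P' * (P * N.1 * P') = P * M.1 * (P' * P) * N.1 * P' by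
        simp only [Matrix.mul_assoc], h]
      simp only [Matrix.mul_assoc, Matrix.one_mul])

theorem cj_inj {P P' : Matrix (Fin 4) (Fin 4) K} (h : P' * P = 1) : Function.Injective (cj h) :=
  (injective_iff_map_eq_one _).2 fun M e => Subtype.ext (by
    have : P * M.1 * P' = 1 := congrArg Subtype.val e
    calc M.1 = (P' * P) * M.1 * (P' * P) := by simp [h]
      _ = P' * (P * M.1 * P') * P := by simp only [Matrix.mul_assoc]
      _ = 1 := by rw [this, Matrix.mul_one, h])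

/-- the antidiagonal form -/
def Jm : Matrix (Fin 4) (Fin 4) K := !![0, 0, 0, 1; 0, 0, 1, 0; 0, 1, 0, 0; 1, 0, 0, 0]

theorem mem_SU {K : Type*} [Field K] {q : ℕ} (σ : K →+* K) (hσ : ∀ x, x ^ q = σ x) {M : SL(4, K)}
    (h : M.1ᵀ * M.1.map σ = 1) : M ∈ Cfsg.SU 4 K q := fun u v => by
  have k : ∀ u v : Fin 4 → K, Cfsg.hermForm 4 K q u v = u ⬝ᵥ (σ ∘ v) := fun u v => by
    simp [Cfsg.hermForm, hσ, dotProduct]
  rw [k, k]
  change (M.1 *ᵥ u) ⬝ᵥ (σ ∘ (M.1 *ᵥ v)) = _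
  rw [show σ ∘ (M.1 *ᵥ v) = M.1.map σ *ᵥ (σ ∘ v) from funext fun i => RingHom.map_mulVec σ _ _ i,
    dotProduct_mulVec, vecMul_mulVec, h, vecMul_one]

theorem cj_mem {K : Type*} [Field K] {q : ℕ} (σ : K →+* K) (hσ : ∀ x, x ^ q = σ x)
    {P P' : Matrix (Fin 4) (Fin 4) K} (h : P' * P = 1) (hP : Pᵀ * P.map σ = Jm) {M : SL(4, K)}
    (hM : M.1ᵀ * Jm * M.1.map σ = Jm) : cj h M ∈ Cfsg.SU 4 K q := mem_SU σ hσ (by
  have h' := mul_eq_one_comm.1 h
  change (P * M.1 * P')ᵀ * (P * M.1 * P').map σ = 1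
  rw [Matrix.map_mul, Matrix.map_mul, transpose_mul, transpose_mul]
  calc _ = P'ᵀ * (M.1ᵀ * (Pᵀ * P.map σ) * M.1.map σ) * P'.map σ := by simp only [Matrix.mul_assoc]
    _ = (P * P')ᵀ * (P * P').map σ := by
      rw [hP, hM, ← hP, Matrix.map_mul, transpose_mul]; simp only [Matrix.mul_assoc]
    _ = 1 := by rw [h']; simp)

theorem su {K : Type*} [Field K] {p : ℕ} [CharP K p] {k : ℤ} (σ : K →+* K) (hσ : ∀ x, x ^ p = σ x)
    (two : (2 : K) ≠ 0) {θ ε : K} (θ0 : θ ≠ 0) (hθ : -(k : K) = θ * θ) (sθ : σ θ = -θ)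
    (hε : ε * σ ε = -1) : ∃ b x0 x1 x2 x3 z : Cfsg.SU 4 K p, RelB p k b x0 x1 x2 x3 z ∧ z ≠ 1 := by
  obtain ⟨h, hh⟩ : ∃ h : K, 2 * h = 1 := ⟨2⁻¹, mul_inv_cancel₀ two⟩
  have sh : σ h = h := mul_left_cancel₀ two (by rw [hh, ← map_ofNat σ 2, ← map_mul, hh, map_one])
  let P : Matrix (Fin 4) (Fin 4) K := !![1, 0, 0, h; ε, 0, 0, -(ε * h); 0, 1, h, 0; 0, ε, -(ε * h), 0]
  have hP : Pᵀ * P.map σ = Jm := by
    ext i j
    fin_cases i <;> fin_cases j <;> simp [P, Jm, Matrix.mul_apply, Fin.sum_univ_four, sh] <;>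
      first
        | linear_combination hε
        | linear_combination hh - h * hε
        | linear_combination h * h * hε
  have hJ : (Jm : Matrix (Fin 4) (Fin 4) K) * Jm = 1 := by
    ext i j
    fin_cases i <;> fin_cases j <;> simp [Jm, Matrix.mul_apply, Fin.sum_univ_four]
  have hP' : (P.map σ * Jm)ᵀ * P = 1 := by
    rw [← transpose_transpose P, ← transpose_mul, transpose_transpose, ← Matrix.mul_assoc, hP, hJ,
      transpose_one]
  have r := (rel (p := p) θ hθ.symm).map (cj hP')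
  have mb : cj hP' (U 0 0 0 θ 0 0) ∈ Cfsg.SU 4 K p := cj_mem σ hσ hP' hP (by
    ext i j
    fin_cases i <;> fin_cases j <;> simp [U, Jm, Matrix.mul_apply, Fin.sum_univ_four, sθ])
  have m0 : cj hP' (U (-1) 0 0 0 0 1) ∈ Cfsg.SU 4 K p := cj_mem σ hσ hP' hP (by
    ext i j
    fin_cases i <;> fin_cases j <;> simp [U, Jm, Matrix.mul_apply, Fin.sum_univ_four])
  have m1 : cj hP' (U θ 0 0 0 0 θ) ∈ Cfsg.SU 4 K p := cj_mem σ hσ hP' hP (by
    ext i j
    fin_cases i <;> fin_cases j <;> simp [U, Jm, Matrix.mul_apply, Fin.sum_univ_four, sθ])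
  have m2 := (mul_mem_cancel_left m0).1 (r.b0 ▸ mul_mem (mul_mem mb m0) (inv_mem mb))
  have m3 := (mul_mem_cancel_left m1).1 (r.b1 ▸ mul_mem (mul_mem mb m1) (inv_mem mb))
  have mz : cj hP' (U 0 0 (-(2 * θ)) 0 0 0) ∈ Cfsg.SU 4 K p := by
    rw [← r.c02]; exact mul_mem (mul_mem (mul_mem m0 m2) (inv_mem m0)) (inv_mem m2)
  exact ⟨⟨_, mb⟩, ⟨_, m0⟩, ⟨_, m1⟩, ⟨_, m2⟩, ⟨_, m3⟩, ⟨_, mz⟩, RelB.of_map (Subgroup.subtype_injective _) r,
    fun e => z_ne (mul_ne_zero two θ0) (cj_inj hP' ((congrArg Subtype.val e).trans (map_one _).symm))⟩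

theorem nd {p a m : ℕ} (hp : p.Prime) {N : ℕ} (e : a * N = p ^ 6 * m) (hm : ¬ p ∣ m) : ¬ p ^ 7 ∣ N :=
  fun h => hm (Nat.dvd_of_mul_dvd_mul_left (pow_pos hp.pos 6) (e ▸ pow_succ p 6 ▸ h.mul_left a))

theorem nd1 {p : ℕ} (hp : p.Prime) {n : ℕ} (hn : n ≠ 0) : ¬ p ∣ p ^ n - 1 := fun h =>
  hp.not_dvd_one ((Nat.dvd_sub_iff_right (Nat.one_le_pow _ _ hp.pos) (dvd_pow_self p hn)).1 h)

theorem nd2 {p : ℕ} (hp : p.Prime) {n : ℕ} (hn : n ≠ 0) : ¬ p ∣ p ^ n + 1 := fun h =>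
  hp.not_dvd_one ((Nat.dvd_add_right (dvd_pow_self p hn)).1 h)

end SLU

open SLU in
/-- Common computation (checked numerically), over a commutative ring `K` of characteristic `p`, with `t l : K`, `l ^ 2 = -k`,
`E_ij` the matrix units (indices 1..4): `b = 1 + t E23`, `x0 = 1 - E12 + E34`, `x1 = 1 + l E12 + l E34`,
`x2 = x0⁻¹ b x0 b⁻¹ = 1 + t (E13 + E14 + E24)`, `x3 = x1⁻¹ b x1 b⁻¹ = 1 - t l E13 - t l² E14 + t l E24`, `z = 1 - 2 t E14` satisfy
`RelB p k` in `SL(4, K)` (each is `1 + X` with `X ^ 2 = 0`, so the `n`-th power is `1 + n X`, also for `n : ℤ`; `⁅x1,x3⁆ = 1 + 2 t l² E14 = z ^ k`;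
prove `⁅x,y⁆ = w` in the form `x * y = w * y * x`). Here `K = ZMod p`, `t = 1`, `z ≠ 1` as `p` is odd.
Order: `card SL₄(p) * (p - 1) = card GL₄(p) = ∏ (p^4 - p^i)` (`Matrix.card_GL_field`; `cf search card SL`), `p`-part `p ^ 6`. -/
theorem exists_SL4 (hp : Odd p) (hk : IsSquare (-(k : ZMod p))) :
    (∃ b x0 x1 x2 x3 z : Matrix.SpecialLinearGroup (Fin 4) (ZMod p), RelB p k b x0 x1 x2 x3 z ∧ z ≠ 1) ∧
      ¬ p ^ 7 ∣ Nat.card (Matrix.SpecialLinearGroup (Fin 4) (ZMod p)) := by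
  have hp' : p.Prime := Fact.out
  obtain ⟨l, hl⟩ := hk
  refine ⟨⟨_, _, _, _, _, _, rel 1 hl.symm, z_ne ?_⟩, nd hp' (a := p - 1)
    (m := (p ^ 4 - 1) * (p ^ 3 - 1) * (p ^ 2 - 1) * (p ^ 1 - 1)) ?_ ?_⟩
  · rw [mul_one]
    exact Ring.two_ne_zero (by rw [ZMod.ringChar_zmod_n]; rintro rfl; exact absurd hp (by decide))
  · rw [Cfsg.Agent.S0242.result (ZMod.card p) 4 (by norm_num)]
    have h := fun n => Nat.one_le_pow n p hp'.pos
    have h' := fun {m n} (e : m ≤ n) => Nat.pow_le_pow_right hp'.pos e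
    simp only [Fin.prod_univ_four, Fin.val_zero, Fin.val_one, Fin.val_two, show ((3 : Fin 4) : ℕ) = 3
      from rfl]
    zify [h, h' (show 0 ≤ 4 by norm_num), h' (show 1 ≤ 4 by norm_num), h' (show 2 ≤ 4 by norm_num),
      h' (show 3 ≤ 4 by norm_num)]
    ring
  · simp only [hp'.dvd_mul, not_or]
    exact ⟨⟨⟨nd1 hp' (by norm_num), nd1 hp' (by norm_num)⟩, nd1 hp' (by norm_num)⟩, nd1 hp' (by norm_num)⟩

open SLU in
/-- `K = GaloisField p 2` (`Fintype.ofFinite`, `GaloisField.card`). `-k` is a square `θ ^ 2` in `K` (`(-k) ^ ((p²-1)/2) = 1`,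
`FiniteField.isSquare_iff`), `θ ^ p = -θ` (`θ ^ (p-1) = (-k) ^ ((p-1)/2) = -1`, Euler). Take `t = l = θ` in the matrices of `exists_SL4`:
`b`, `x0`, `x1` (hence all six) preserve the antidiagonal form `J`, `Mᵀ J M̄ = J`, bar = `p`-th power. Change the basis: `ε ^ (p+1) = -1`
(the norm is onto; or `ε = g ^ ((p-1)/2)`, `g` a generator of `Kˣ`), `e = (1,ε,0,0)`, `f = (0,0,1,ε)`, `f' = (0,0,1,-ε)/2`, `e' = (1,-ε,0,0)/2`;
`P` with columns `e, f, f', e'` has `Pᵀ P̄ = J`, so conjugation by `P` (a homomorphism `SL →* SL`, `RelB.map`) carries the six matrices into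
`SU 4 K p` (`RelB.of_map` with `Subgroup.subtype`). Order: `S0278.result` with `n = 4`: `p ^ 6` times factors prime to `p`. -/
theorem exists_SU4 (hp : Odd p) (hk : ¬ IsSquare (-(k : ZMod p))) :
    ∃ (K : Type) (_ : Field K) (_ : Fintype K), Fintype.card K = p ^ 2 ∧
      (∃ b x0 x1 x2 x3 z : Cfsg.SU 4 K p, RelB p k b x0 x1 x2 x3 z ∧ z ≠ 1) ∧ ¬ p ^ 7 ∣ Nat.card (Cfsg.SU 4 K p) := by
  have hp' : p.Prime := Fact.out
  have p2 : p ≠ 2 := by rintro rfl; exact absurd hp (by decide)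
  let K := GaloisField p 2
  let _ : Fintype K := Fintype.ofFinite K
  have hK : Fintype.card K = p ^ 2 := by
    rw [← Nat.card_eq_fintype_card]; exact GaloisField.card p 2 two_ne_zero
  refine ⟨K, inferInstance, inferInstance, hK, ?_, nd hp' (a := p + 1)
    (m := (p ^ 1 + 1) * (p ^ 2 - 1) * (p ^ 3 + 1) * (p ^ 4 - 1)) ?_ ?_⟩
  rotate_left
  · rw [Cfsg.Agent.S0278.result hK 4 (by norm_num)]
    simp [Finset.prod_range_succ, show ¬ Even 3 by decide]
  · simp only [hp'.dvd_mul, not_or]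
    exact ⟨⟨⟨nd2 hp' (by norm_num), nd1 hp' (by norm_num)⟩, nd2 hp' (by norm_num)⟩, nd1 hp' (by norm_num)⟩
  have c2 : ringChar K ≠ 2 := by rwa [ringChar.eq K p]
  have two : (2 : K) ≠ 0 := Ring.two_ne_zero c2
  have k0 : -(k : ZMod p) ≠ 0 := fun e => hk (e ▸ IsSquare.zero)
  have e1 : (-(k : K)) ^ (p / 2) = -1 := by
    have := congrArg (algebraMap (ZMod p) K) ((ZMod.pow_div_two_eq_neg_one_or_one p k0).resolve_left
      (mt (ZMod.euler_criterion p k0).2 hk))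
    simpa using this
  obtain ⟨m, hm⟩ := hp
  have d2 : p / 2 = m := by omega
  obtain ⟨θ, hθ⟩ : IsSquare (-(k : K)) := by
    refine (FiniteField.isSquare_iff c2 fun e => ?_).2 ?_
    · rw [e, zero_pow (by have := hp'.two_le; omega)] at e1
      exact one_ne_zero (neg_eq_zero.1 e1.symm)
    · rw [hK, show p ^ 2 / 2 = p / 2 * (2 * (m + 1)) by
        rw [d2, hm, show (2 * m + 1) ^ 2 = 1 + 2 * (m * (2 * (m + 1))) by ring]; omega,
        pow_mul, e1, pow_mul]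
      simp
  let σ : K →+* K := SqField.conj hK
  have hσ : ∀ x, x ^ p = σ x := fun _ => rfl
  have sθ : σ θ = -θ := by
    rw [← hσ, show θ ^ p = (θ * θ) ^ m * θ by rw [← sq, ← pow_mul, ← pow_succ, ← hm], ← hθ, ← d2, e1]
    ring
  have θ0 : θ ≠ 0 := by
    rintro rfl
    rw [hθ, mul_zero, zero_pow (by have := hp'.two_le; omega)] at e1
    exact one_ne_zero (neg_eq_zero.1 e1.symm)
  obtain ⟨ε, hε⟩ := SqField.exists_mul_pow_q_eq hK (μ := -1) (by rw [hσ, map_neg, map_one])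
  exact su σ hσ two θ0 hθ sθ hε

end CL.XI
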